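import Mathlib
import Cfsg.Agent.H393.DerangeIdx
set_option linter.all false

/-!
# Coprime action on an abelian group: fixed points, norms, independence
-/

set_option autoImplicit false

namespace Cfsg.Agent.H895

open MulAction

section

variable {V H : Type*} [CommGroup V] [Group H] [MulDistribMulAction H V]

/-- Fixed points of a subgroup. -/
def fixS (V : Type*) {H : Type*} [CommGroup V] [Group H] [MulDistribMulAction H V]
    (K : Subgroup H) : Subgroup V where
  carrier := {v | ∀ h ∈ K, h • v = v}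
  mul_mem' := by intro a b ha hb h hh; rw [smul_mul', ha h hh, hb h hh]
  one_mem' := by intro h _; exact smul_one h
  inv_mem' := by intro a ha h hh; rw [smul_inv', ha h hh]

theorem mem_fixS {K : Subgroup H} {v : V} : v ∈ fixS V K ↔ ∀ h ∈ K, h • v = v := Iff.rfl

theorem fixS_anti {K K' : Subgroup H} (h : K ≤ K') : fixS V K' ≤ fixS V K :=
  fun _ hv x hx => hv x (h hx)

theorem mem_fixS_zpowers {x : H} {v : V} : v ∈ fixS V (Subgroup.zpowers x) ↔ x • v = v := by
  constructor
  · intro h; exact h x (Subgroup.mem_zpowers x)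
  · intro h y hy
    have : Subgroup.zpowers x ≤ stabilizer H v := by
      rw [Subgroup.zpowers_le]; exact h
    exact this hy

theorem fixS_sup {K K' : Subgroup H} : fixS V (K ⊔ K') = fixS V K ⊓ fixS V K' := by
  ext v
  rw [Subgroup.mem_inf]
  constructor
  · intro h
    exact ⟨fixS_anti le_sup_left h, fixS_anti le_sup_right h⟩
  · rintro ⟨h1, h2⟩ x hx
    have : K ⊔ K' ≤ stabilizer H v := sup_le (fun y hy => h1 y hy) (fun y hy => h2 y hy)
    exact this hx

/-- Product over the powers of an element of order dividing `l`. -/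
def pw (l : ℕ) (y : H) (v : V) : V := ∏ i ∈ Finset.range l, y ^ i • v

theorem smul_pw {l : ℕ} {y : H} (hy : y ^ l = 1) (v : V) : y • pw l y v = pw l y v := by
  rw [pw, Finset.smul_prod']
  have h1 : ∀ i, y • y ^ i • v = y ^ (i + 1) • v := by
    intro i; rw [smul_smul, ← pow_succ']
  simp only [h1]
  have h2 := Finset.prod_range_succ' (fun i => y ^ i • v) l
  have h3 := Finset.prod_range_succ (fun i => y ^ i • v) l
  rw [h3, hy, pow_zero] at h2
  exact (mul_right_cancel h2).symm

theorem pow_card_coprime_eq_one [Finite V] {m : ℕ} (hm : Nat.Coprime m (Nat.card V)) {v : V}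
    (hv : v ^ m = 1) : v = 1 := by
  rw [← orderOf_eq_one_iff, ← Nat.dvd_one, ← hm]
  exact Nat.dvd_gcd (orderOf_dvd_of_pow_eq_one hv) (orderOf_dvd_natCard v)

/-- If `z` of prime order `l` generates the same group as its nontrivial powers. -/
theorem smul_eq_of_pow {l : ℕ} (hl : l.Prime) {z : H} (hz : z ^ l = 1) {j : ℕ} (hj : 0 < j)
    (hjl : j < l) {v : V} (h : z ^ j • v = v) : z • v = v := by
  have hcop : Nat.Coprime j l := by
    rw [Nat.coprime_comm, Nat.Prime.coprime_iff_not_dvd hl]
    exact Nat.not_dvd_of_pos_of_lt hj hjl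
  have h1 : z ^ (Nat.gcd j l) • v = v := by
    have h2 : z ^ j ∈ stabilizer H v := h
    have h3 : z ^ l ∈ stabilizer H v := by rw [hz]; exact one_mem _
    have h4 : (z : H) ^ ((Nat.gcd j l : ℕ) : ℤ) ∈ stabilizer H v := by
      rw [Nat.gcd_eq_gcd_ab, zpow_add, zpow_mul, zpow_mul, zpow_natCast, zpow_natCast]
      exact mul_mem (zpow_mem h2 _) (zpow_mem h3 _)
    rw [zpow_natCast] at h4
    exact h4
  rw [hcop, pow_one] at h1
  exact h1

/-- **Lemma E.** If `x, z` commute and have order dividing the prime `l`, `z` has no fixed points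
on `V ≠ 1`, `|V|` coprime to `l`, then some `x z^i` has a nontrivial fixed point. -/
theorem exists_fixed [Finite V] [Nontrivial V] {l : ℕ} (hl : l.Prime)
    (hcop : Nat.Coprime l (Nat.card V)) {x z : H} (hxz : x * z = z * x) (hx : x ^ l = 1)
    (hz : z ^ l = 1) (hzf : ∀ v : V, z • v = v → v = 1) :
    ∃ i : ℕ, i < l ∧ ∃ v : V, v ≠ 1 ∧ (x * z ^ i) • v = v := by
  by_contra hcon
  push Not at hcon
  have hcomm : Commute x z := hxz
  have hN : ∀ i, i < l → ∀ v : V, pw l (x * z ^ i) v = 1 := by
    intro i hi v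
    by_contra h
    refine hcon i hi _ h (smul_pw ?_ v)
    rw [(hcomm.pow_right i).mul_pow, hx, ← pow_mul, mul_comm, pow_mul, hz, one_pow, one_mul]
  obtain ⟨v, hv⟩ := exists_ne (1 : V)
  apply hv
  apply pow_card_coprime_eq_one hcop
  have h1 : ∏ i ∈ Finset.range l, pw l (x * z ^ i) v = 1 :=
    Finset.prod_eq_one fun i hi => hN i (Finset.mem_range.1 hi) v
  simp only [pw] at h1
  rw [Finset.prod_comm] at h1
  have h2 : ∀ j ∈ Finset.range l, j ≠ 0 → ∏ i ∈ Finset.range l, (x * z ^ i) ^ j • v = 1 := by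
    intro j hj hj0
    rw [Finset.mem_range] at hj
    have h3 : ∀ i ∈ Finset.range l, (x * z ^ i) ^ j • v = x ^ j • ((z ^ j) ^ i • v) := by
      intro i _
      rw [(hcomm.pow_right i).mul_pow, mul_smul, ← pow_mul, ← pow_mul, mul_comm i j]
    rw [Finset.prod_congr rfl h3, ← Finset.smul_prod']
    have h4 : ∏ i ∈ Finset.range l, (z ^ j) ^ i • v = 1 := by
      have h5 : z ^ j • pw l (z ^ j) v = pw l (z ^ j) v :=
        smul_pw (by rw [← pow_mul, mul_comm, pow_mul, hz, one_pow]) v
      exact hzf _ (smul_eq_of_pow hl hz (Nat.pos_of_ne_zero hj0) hj h5)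
    rw [h4, smul_one]
  rw [Finset.prod_eq_single 0 h2 (fun h => absurd (Finset.mem_range.2 hl.pos) h)] at h1
  simp only [pow_zero, one_smul, Finset.prod_const, Finset.card_range] at h1
  exact h1

/-- Norm over a finite subgroup. -/
noncomputable def nrm [Finite H] (K : Subgroup H) (v : V) : V :=
  letI := Fintype.ofFinite K
  ∏ k : K, (k : H) • v

theorem nrm_eq [Finite H] (K : Subgroup H) [inst : Fintype K] (v : V) :
    nrm K v = ∏ k : K, (k : H) • v := by
  have h : inst = Fintype.ofFinite K := Subsingleton.elim _ _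
  subst h
  rfl

theorem smul_nrm [Finite H] {K : Subgroup H} {x : H} (hx : x ∈ K) (v : V) :
    x • nrm K v = nrm K v := by
  classical
  have := Fintype.ofFinite K
  rw [nrm_eq, Finset.smul_prod']
  refine Fintype.prod_equiv (Equiv.mulLeft (⟨x, hx⟩ : K)) (fun k : K => x • ((k : H) • v))
    (fun k : K => (k : H) • v) ?_
  intro k
  rw [smul_smul]; rfl

theorem smul_nrm_of_comm [Finite H] {K : Subgroup H} {x : H} (hx : ∀ k ∈ K, x * k = k * x) {v : V}
    (hv : x • v = v) : x • nrm K v = nrm K v := by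
  classical
  have := Fintype.ofFinite K
  rw [nrm_eq, Finset.smul_prod']
  refine Finset.prod_congr rfl fun k _ => ?_
  rw [smul_smul, hx k k.2, mul_smul, hv]

theorem nrm_of_fixed [Finite H] {K : Subgroup H} {v : V} (hv : v ∈ fixS V K) :
    nrm K v = v ^ Nat.card K := by
  classical
  have := Fintype.ofFinite K
  rw [nrm_eq, Finset.prod_congr rfl (fun k _ => hv k.1 k.2), Finset.prod_const,
    Finset.card_univ, Nat.card_eq_fintype_card]

theorem nrm_prod [Finite H] {ι : Type*} (s : Finset ι) (K : Subgroup H) (f : ι → V) :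
    nrm K (∏ i ∈ s, f i) = ∏ i ∈ s, nrm K (f i) := by
  classical
  have := Fintype.ofFinite K
  simp only [nrm_eq]
  rw [Finset.prod_comm]
  refine Finset.prod_congr rfl fun k _ => ?_
  rw [Finset.smul_prod']

theorem nrm_one [Finite H] (K : Subgroup H) : nrm K (1 : V) = 1 := by
  have := Fintype.ofFinite K
  rw [nrm_eq]
  exact Finset.prod_eq_one fun k _ => smul_one _

/-- **Independence.** -/
theorem indep [Finite H] [Finite V] {ι : Type*} [Fintype ι] (K : ι → Subgroup H)
    (hcomm : ∀ i j, ∀ x ∈ K i, ∀ y ∈ K j, x * y = y * x)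
    (hdis : ∀ i j, i ≠ j → ∀ v : V, v ∈ fixS V (K i) → v ∈ fixS V (K j) → v = 1)
    (hcop : ∀ i, Nat.Coprime (Nat.card (K i)) (Nat.card V)) :
    ∏ i, Nat.card (fixS V (K i)) ≤ Nat.card V := by
  classical
  rw [← Nat.card_pi]
  refine Nat.card_le_card_of_injective (fun f : (∀ i, fixS V (K i)) => ∏ i, (f i : V)) ?_
  intro f g hfg
  have h1 : ∏ i, ((f i : V) / (g i : V)) = 1 := by
    rw [Finset.prod_div_distrib, div_eq_one]; exact hfg
  have hu : ∀ i, (f i : V) / (g i : V) ∈ fixS V (K i) := fun i => div_mem (f i).2 (g i).2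
  funext j
  apply Subtype.ext
  rw [← div_eq_one]
  apply pow_card_coprime_eq_one (hcop j)
  rw [← nrm_of_fixed (hu j)]
  have h2 := nrm_prod Finset.univ (K j) (fun i => (f i : V) / (g i : V))
  rw [h1, nrm_one] at h2
  rw [Finset.prod_eq_single j] at h2
  · exact h2.symm
  · intro i _ hij
    refine hdis i j hij _ ?_ ?_
    · intro x hx
      exact smul_nrm_of_comm (fun k hk => hcomm i j x hx k hk) (hu i x hx)
    · intro x hx
      exact smul_nrm hx _
  · intro h; exact absurd (Finset.mem_univ j) h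

theorem card_fixS_conj (x h : H) : Nat.card (fixS V (Subgroup.zpowers (h * x * h⁻¹))) =
    Nat.card (fixS V (Subgroup.zpowers x)) := by
  refine Nat.card_congr ⟨fun v => ⟨h⁻¹ • (v : V), ?_⟩, fun v => ⟨h • (v : V), ?_⟩, ?_, ?_⟩
  · have hv := mem_fixS_zpowers.1 v.2
    rw [mem_fixS_zpowers]
    rw [mul_smul, mul_smul] at hv
    rw [eq_inv_smul_iff]; exact hv
  · have hv := mem_fixS_zpowers.1 v.2
    rw [mem_fixS_zpowers]
    rw [mul_smul, mul_smul, inv_smul_smul, hv]
  · intro v; apply Subtype.ext; simp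
  · intro v; apply Subtype.ext; simp

/-- If `x` is conjugate to all `x z^i`, its fixed space is small. -/
theorem fix_pow_le [Finite H] [Finite V] {l : ℕ} (hl : l.Prime)
    (hcop : Nat.Coprime l (Nat.card V)) {x z : H} (hxz : x * z = z * x) (hx : x ^ l = 1)
    (hz : z ^ l = 1) (hzf : ∀ v : V, z • v = v → v = 1)
    (hconj : ∀ i : ℕ, i < l → ∃ h : H, h * x * h⁻¹ = x * z ^ i) :
    Nat.card (fixS V (Subgroup.zpowers x)) ^ l ≤ Nat.card V := by
  classical
  have hcomm : Commute x z := hxz
  have key := indep (V := V) (ι := Fin l) (fun i => Subgroup.zpowers (x * z ^ (i : ℕ))) ?_ ?_ ?_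
  · rw [Finset.prod_congr rfl (g := fun _ => Nat.card (fixS V (Subgroup.zpowers x)))] at key
    · rw [Finset.prod_const, Finset.card_univ, Fintype.card_fin] at key
      exact key
    · intro i _
      obtain ⟨h, hh⟩ := hconj i i.2
      rw [← hh, card_fixS_conj]
  · intro i j a ha b hb
    have hc : Commute (x * z ^ (i : ℕ)) (x * z ^ (j : ℕ)) := by
      have e1 : Commute x (x * z ^ (j : ℕ)) := (Commute.refl x).mul_right (hcomm.pow_right _)
      have e2 : Commute (z ^ (i : ℕ)) (x * z ^ (j : ℕ)) :=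
        ((hcomm.pow_right (i : ℕ)).symm).mul_right ((Commute.refl z).pow_pow _ _)
      exact e1.mul_left e2
    rw [Subgroup.mem_zpowers_iff] at ha hb
    obtain ⟨m, rfl⟩ := ha
    obtain ⟨m', rfl⟩ := hb
    exact hc.zpow_zpow m m'
  · intro i j hij v hvi hvj
    rw [mem_fixS_zpowers] at hvi hvj
    have key : ∀ a b : ℕ, a < b → b < l → (x * z ^ a) • v = v → (x * z ^ b) • v = v → v = 1 := by
      intro a b hab hbl h1 h2
      have h3 : z ^ (b - a) • v = v := by
        have e : x * z ^ b = (x * z ^ a) * z ^ (b - a) := by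
          rw [mul_assoc, ← pow_add]; congr 2; omega
        rw [e, mul_smul] at h2
        exact MulAction.injective (x * z ^ a) (h2.trans h1.symm)
      exact hzf v (smul_eq_of_pow hl hz (by omega) (by omega) h3)
    rcases Nat.lt_or_ge (i : ℕ) (j : ℕ) with h | h
    · exact key i j h j.2 hvi hvj
    · have h' : (j : ℕ) < i := lt_of_le_of_ne h (fun h'' => hij (Fin.ext h''.symm))
      exact key j i h' i.2 hvj hvi
  · intro i
    have h1 : (x * z ^ (i : ℕ)) ^ l = 1 := by
      rw [(hcomm.pow_right _).mul_pow, hx, ← pow_mul, mul_comm, pow_mul, hz, one_pow, one_mul]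
    rw [Nat.card_zpowers]
    exact Nat.Coprime.coprime_dvd_left (orderOf_dvd_of_pow_eq_one h1) hcop

end

end Cfsg.Agent.H895
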