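import Mathlib
import Cfsg.Agent.H895.AffBasic
set_option linter.all false

-- part: H895/AffCount
section
/-!
# Counting fixed pairs for the affine theorem
-/

set_option autoImplicit false

namespace Cfsg.Agent.H895

open MulAction

section

variable {V H : Type*} [CommGroup V] [Group H] [MulDistribMulAction H V]

/-- Nonidentity elements of `B` with a nontrivial fixed point. -/
def Iset (V : Type*) {H : Type*} [CommGroup V] [Group H] [MulDistribMulAction H V]
    (B : Subgroup H) : Set H := {x | x ∈ B ∧ x ≠ 1 ∧ ∃ v : V, v ≠ 1 ∧ x • v = v}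

theorem card_inf_stab_smul {B : Subgroup H} (hBn : B.Normal) (h : H) (w : V) :
    Nat.card (B ⊓ stabilizer H (h • w) : Subgroup H) =
      Nat.card (B ⊓ stabilizer H w : Subgroup H) := by
  refine Nat.card_congr ⟨fun x => ⟨h⁻¹ * (x : H) * h, ?_⟩, fun x => ⟨h * (x : H) * h⁻¹, ?_⟩, ?_, ?_⟩
  · have hx := x.2
    rw [Subgroup.mem_inf] at hx ⊢
    refine ⟨?_, ?_⟩
    · have := hBn.conj_mem _ hx.1 h⁻¹
      rwa [inv_inv] at this
    · have h2 := hx.2
      rw [mem_stabilizer_iff] at h2 ⊢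
      rw [mul_smul, mul_smul, h2, inv_smul_smul]
  · have hx := x.2
    rw [Subgroup.mem_inf] at hx ⊢
    refine ⟨hBn.conj_mem _ hx.1 h, ?_⟩
    have h2 := hx.2
    rw [mem_stabilizer_iff] at h2 ⊢
    rw [mul_smul, mul_smul, inv_smul_smul, h2]
  · intro x; apply Subtype.ext; simp [mul_assoc]
  · intro x; apply Subtype.ext; simp [mul_assoc]

theorem card_filter_stab [Finite V] [Fintype H] [DecidableEq H] (B : Subgroup H) (u : V)
    [DecidablePred (fun x : H => x ∈ B ∧ x ≠ 1)] [DecidablePred (fun x : H => x • u = u)] :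
    ((Finset.univ.filter (fun x : H => x ∈ B ∧ x ≠ 1)).filter (fun x => x • u = u)).card =
      Nat.card (B ⊓ stabilizer H u : Subgroup H) - 1 := by
  classical
  have h1 : (Finset.univ.filter (fun x : H => x ∈ B ∧ x ≠ 1)).filter (fun x => x • u = u) =
      (Finset.univ.filter (fun x : H => x ∈ (B ⊓ stabilizer H u : Subgroup H))).erase 1 := by
    ext x
    simp only [Finset.mem_filter, Finset.mem_univ, true_and, Finset.mem_erase, Subgroup.mem_inf,
      mem_stabilizer_iff]
    tauto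
  rw [h1, Finset.card_erase_of_mem (by simp), Nat.card_eq_fintype_card, Fintype.card_subtype]

theorem count_bound [Finite V] [Finite H] (R : Subgroup H)
    (hR : ∀ h : H, h ∉ R → ∀ v : V, h • v = v → v = 1)
    (B : Subgroup H) (hBn : B.Normal) (hBR : B ≤ R) {w : V} (hw : w ≠ 1) {c : ℕ}
    (hc : ∀ x ∈ Iset V B, Nat.card (fixS V (Subgroup.zpowers x)) ≤ c) :
    R.index * Nat.card B * (Nat.card (B ⊓ stabilizer H w : Subgroup H) - 1) ≤
      Nat.card (B ⊓ stabilizer H w : Subgroup H) * ((Iset V B).ncard * (c - 1)) := by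
  classical
  have := Fintype.ofFinite H
  have := Fintype.ofFinite V
  set S := stabilizer H w with hS
  set m := Nat.card (B ⊓ S : Subgroup H) with hm
  have hSR : S ≤ R := by
    intro h hh
    by_contra hcon
    exact hw (hR h hcon w hh)
  have h1 : R.index * Nat.card B ≤ S.index * m := by
    have e1 : S.relIndex R * R.index = S.index := Subgroup.relIndex_mul_index hSR
    have e2 : S.relIndex B ≤ S.relIndex R :=
      Subgroup.relIndex_le_of_le_right hBR (Subgroup.index_ne_zero_of_finite)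
    have e3 := Subgroup.relIndex_mul_relIndex ⊥ (B ⊓ S) B bot_le inf_le_left
    rw [Subgroup.relIndex_bot_left, Subgroup.relIndex_bot_left, Subgroup.inf_relIndex_left] at e3
    rw [← e1, ← e3]
    calc R.index * (m * S.relIndex B) = (S.relIndex B * R.index) * m := by ring
      _ ≤ (S.relIndex R * R.index) * m :=
        Nat.mul_le_mul_right _ (Nat.mul_le_mul_right _ e2)
  have h2 : S.index * (m - 1) ≤ (Iset V B).ncard * (c - 1) := by
    set s : Finset H := Finset.univ.filter (fun x => x ∈ B ∧ x ≠ 1) with hs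
    set t : Finset V := Finset.univ.filter (fun u => u ∈ orbit H w) with ht
    have key := Finset.sum_card_bipartiteAbove_eq_sum_card_bipartiteBelow
      (fun (x : H) (u : V) => x • u = u) (s := s) (t := t)
    have hRHS : ∑ u ∈ t, (Finset.bipartiteBelow (fun (x : H) (u : V) => x • u = u) s u).card =
        S.index * (m - 1) := by
      have e1 : ∀ u ∈ t,
          (Finset.bipartiteBelow (fun (x : H) (u : V) => x • u = u) s u).card = m - 1 := by
        intro u hu
        rw [ht, Finset.mem_filter] at hu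
        obtain ⟨h, rfl⟩ := hu.2
        have := card_filter_stab B (h • w)
        rw [card_inf_stab_smul hBn] at this
        exact this
      rw [Finset.sum_congr rfl e1, Finset.sum_const, smul_eq_mul]
      congr 1
      rw [index_stabilizer, ht, Set.ncard_eq_toFinset_card']
      congr 1
      ext u
      simp
    have hLHS : ∑ x ∈ s, (Finset.bipartiteAbove (fun (x : H) (u : V) => x • u = u) t x).card ≤
        (Iset V B).ncard * (c - 1) := by
      have e1 : ∀ x ∈ s, (Finset.bipartiteAbove (fun (x : H) (u : V) => x • u = u) t x).card ≤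
          if x ∈ Iset V B then c - 1 else 0 := by
        intro x hx
        rw [hs, Finset.mem_filter] at hx
        have hne : ∀ u ∈ t, u ≠ 1 := by
          intro u hu h1
          rw [ht, Finset.mem_filter] at hu
          obtain ⟨h, rfl⟩ := hu.2
          apply hw
          have h3 := congrArg (fun y => h⁻¹ • y) h1
          simpa using h3
        split_ifs with hxI
        · have e2 := hc x hxI
          have e3 : (Finset.bipartiteAbove (fun (x : H) (u : V) => x • u = u) t x) ⊆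
              (Finset.univ.filter (fun u : V => u ∈ fixS V (Subgroup.zpowers x))).erase 1 := by
            intro u hu
            rw [Finset.mem_bipartiteAbove] at hu
            rw [Finset.mem_erase, Finset.mem_filter]
            exact ⟨hne u hu.1, Finset.mem_univ _, mem_fixS_zpowers.2 hu.2⟩
          refine (Finset.card_le_card e3).trans ?_
          rw [Finset.card_erase_of_mem (by simp [one_mem])]
          rw [Nat.card_eq_fintype_card, Fintype.card_subtype] at e2
          omega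
        · rw [Nat.le_zero, Finset.card_eq_zero, Finset.eq_empty_iff_forall_notMem]
          intro u hu
          rw [Finset.mem_bipartiteAbove] at hu
          exact hxI ⟨hx.2.1, hx.2.2, u, hne u hu.1, hu.2⟩
      refine (Finset.sum_le_sum e1).trans ?_
      rw [← Finset.sum_filter, Finset.sum_const, smul_eq_mul]
      apply Nat.mul_le_mul_right
      rw [Set.ncard_eq_toFinset_card']
      apply Finset.card_le_card
      intro x hx
      rw [Finset.mem_filter] at hx
      rw [Set.mem_toFinset]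
      exact hx.2
    rw [← hRHS, ← key]
    exact hLHS
  calc R.index * Nat.card B * (m - 1) ≤ (S.index * m) * (m - 1) := Nat.mul_le_mul_right _ h1
    _ = m * (S.index * (m - 1)) := by ring
    _ ≤ m * ((Iset V B).ncard * (c - 1)) := Nat.mul_le_mul_left _ h2

theorem ncard_Iset_le [Finite H] (B : Subgroup H) : (Iset V B).ncard ≤ Nat.card B := by
  rw [← Nat.card_coe_set_eq]
  exact Nat.card_mono (Set.toFinite (B : Set H)) (fun x hx => hx.1)

theorem exists_max_fix [Finite V] [Finite H] {B : Subgroup H} (hI : (Iset V B).Nonempty) :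
    ∃ x0 ∈ Iset V B, ∀ x ∈ Iset V B, Nat.card (fixS V (Subgroup.zpowers x)) ≤
      Nat.card (fixS V (Subgroup.zpowers x0)) :=
  Set.exists_max_image _ _ (Set.toFinite _) hI

theorem Iset_nonempty [Finite H] {B : Subgroup H} {w : V} (hw : w ≠ 1)
    (hm : 2 ≤ Nat.card (B ⊓ stabilizer H w : Subgroup H)) : (Iset V B).Nonempty := by
  have h0 : (B ⊓ stabilizer H w : Subgroup H) ≠ ⊥ := by
    intro h
    rw [h, Subgroup.card_bot] at hm
    omega
  obtain ⟨x, hx1⟩ := Subgroup.ne_bot_iff_exists_ne_one.1 h0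
  have hx := Subgroup.mem_inf.1 x.2
  exact ⟨x, hx.1, fun h => hx1 (Subtype.ext h), w, hw, hx.2⟩

/-- Counting for odd primes: all fixed spaces satisfy `c ^ 3 ≤ n`. -/
theorem bound_odd [Finite V] [Finite H] (R : Subgroup H)
    (hR : ∀ h : H, h ∉ R → ∀ v : V, h • v = v → v = 1)
    (B : Subgroup H) (hBn : B.Normal) (hBR : B ≤ R) {w : V} (hw : w ≠ 1)
    (hm : 3 ≤ Nat.card (B ⊓ stabilizer H w : Subgroup H))
    (hc : ∀ x ∈ Iset V B, Nat.card (fixS V (Subgroup.zpowers x)) ^ 3 ≤ Nat.card V) :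
    (R.index + 1) ^ 2 ≤ Nat.card V := by
  have hI : (Iset V B).Nonempty := Iset_nonempty hw (by omega)
  obtain ⟨x0, hx0, hmax⟩ := exists_max_fix hI
  set c := Nat.card (fixS V (Subgroup.zpowers x0)) with hcdef
  have hc3 := hc x0 hx0
  have key := count_bound R hR B hBn hBR hw hmax
  set m := Nat.card (B ⊓ stabilizer H w : Subgroup H) with hmdef
  have hcpos : 0 < c := Nat.card_pos
  have hBpos : 0 < Nat.card B := Nat.card_pos
  obtain ⟨k, hk⟩ : ∃ k, m = k + 1 := ⟨m - 1, by omega⟩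
  obtain ⟨d, hd⟩ : ∃ d, c = d + 1 := ⟨c - 1, by omega⟩
  rw [← hcdef] at hc3
  rw [hk, hd] at key
  simp only [Nat.add_sub_cancel] at key
  have h1 : R.index * k ≤ (k + 1) * d := by
    have h2 : Nat.card B * (R.index * k) ≤ Nat.card B * ((k + 1) * d) := by
      calc Nat.card B * (R.index * k) = R.index * Nat.card B * k := by ring
        _ ≤ (k + 1) * ((Iset V B).ncard * d) := key
        _ ≤ (k + 1) * (Nat.card B * d) :=
          Nat.mul_le_mul_left _ (Nat.mul_le_mul_right _ (ncard_Iset_le B))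
        _ = _ := by ring
    exact Nat.le_of_mul_le_mul_left h2 hBpos
  have hk2 : 2 ≤ k := by omega
  have h2 : 2 * R.index ≤ 3 * d := by
    have : k * (2 * R.index) ≤ k * (3 * d) := by nlinarith
    exact Nat.le_of_mul_le_mul_left this (by omega)
  refine le_trans ?_ hc3
  rw [hd]
  nlinarith [sq_nonneg (2 * d), Nat.zero_le d, mul_le_mul h2 h2 (Nat.zero_le _) (Nat.zero_le _)]

/-- Counting for the prime two. -/
theorem bound_two [Finite V] [Finite H] (R : Subgroup H)
    (hR : ∀ h : H, h ∉ R → ∀ v : V, h • v = v → v = 1)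
    (B : Subgroup H) (hBn : B.Normal) (hBR : B ≤ R) {w : V} (hw : w ≠ 1)
    (hm : 2 ≤ Nat.card (B ⊓ stabilizer H w : Subgroup H))
    (hI : (Iset V B).ncard * Nat.card (B ⊓ stabilizer H w : Subgroup H) ≤
      Nat.card B * (Nat.card (B ⊓ stabilizer H w : Subgroup H) - 1))
    (hc : ∀ x ∈ Iset V B, Nat.card (fixS V (Subgroup.zpowers x)) ^ 2 ≤ Nat.card V) :
    (R.index + 1) ^ 2 ≤ Nat.card V := by
  have hIne : (Iset V B).Nonempty := Iset_nonempty hw hm
  obtain ⟨x0, hx0, hmax⟩ := exists_max_fix hIne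
  set c := Nat.card (fixS V (Subgroup.zpowers x0)) with hcdef
  have hc2 := hc x0 hx0
  have key := count_bound R hR B hBn hBR hw hmax
  set m := Nat.card (B ⊓ stabilizer H w : Subgroup H) with hmdef
  have hcpos : 0 < c := Nat.card_pos
  have hBpos : 0 < Nat.card B := Nat.card_pos
  rw [← hcdef] at hc2
  have h1 : R.index ≤ c - 1 := by
    have h2 : (Nat.card B * (m - 1)) * R.index ≤ (Nat.card B * (m - 1)) * (c - 1) := by
      calc (Nat.card B * (m - 1)) * R.index = R.index * Nat.card B * (m - 1) := by ring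
        _ ≤ m * ((Iset V B).ncard * (c - 1)) := key
        _ = ((Iset V B).ncard * m) * (c - 1) := by ring
        _ ≤ _ := Nat.mul_le_mul_right _ hI
    exact Nat.le_of_mul_le_mul_left h2 (Nat.mul_pos hBpos (by omega))
  refine le_trans ?_ hc2
  exact Nat.pow_le_pow_left (by omega) 2

end

end Cfsg.Agent.H895
end

-- part: H895/AffOmega
section
/-!
# Preimage of the socle of the centre of a quotient
-/

set_option autoImplicit false

namespace Cfsg.Agent.H895

section

variable {G : Type*} [Group G]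

/-- Elements of order dividing `l` of `C` centralising `C`. -/
def omC (C : Subgroup G) (l : ℕ) : Subgroup G where
  carrier := {x | x ∈ C ∧ (∀ y ∈ C, x * y = y * x) ∧ x ^ l = 1}
  mul_mem' := by
    rintro a b ⟨ha, ha2, ha3⟩ ⟨hb, hb2, hb3⟩
    refine ⟨mul_mem ha hb, ?_, ?_⟩
    · intro y hy
      rw [mul_assoc, hb2 y hy, ← mul_assoc, ha2 y hy, mul_assoc]
    · have h : Commute a b := ha2 b hb
      rw [h.mul_pow, ha3, hb3, one_mul]
  one_mem' := ⟨one_mem _, fun y _ => by rw [one_mul, mul_one], one_pow _⟩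
  inv_mem' := by
    rintro a ⟨ha, ha2, ha3⟩
    refine ⟨inv_mem ha, ?_, ?_⟩
    · intro y hy
      have h : Commute a y := ha2 y hy
      exact h.inv_left
    · rw [inv_pow, ha3, inv_one]

theorem mem_omC {C : Subgroup G} {l : ℕ} {x : G} :
    x ∈ omC C l ↔ x ∈ C ∧ (∀ y ∈ C, x * y = y * x) ∧ x ^ l = 1 := Iff.rfl

theorem omC_normal {C : Subgroup G} (hC : C.Normal) (l : ℕ) : (omC C l).Normal := by
  constructor
  intro x hx g
  obtain ⟨h1, h2, h3⟩ := hx
  refine ⟨hC.conj_mem _ h1 g, ?_, ?_⟩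
  · intro y hy
    have hy' := hC.conj_mem _ hy g⁻¹
    rw [inv_inv] at hy'
    have h4 := h2 _ hy'
    calc g * x * g⁻¹ * y = g * (x * (g⁻¹ * y * g)) * g⁻¹ := by group
      _ = g * ((g⁻¹ * y * g) * x) * g⁻¹ := by rw [h4]
      _ = _ := by group
  · rw [conj_pow, h3, mul_one, mul_inv_cancel]

theorem omC_ne_bot [Finite G] {C : Subgroup G} {l : ℕ} (hl : l.Prime) (hC : IsPGroup l C)
    (hne : C ≠ ⊥) : omC C l ≠ ⊥ := by
  have := Fact.mk hl
  have : Nontrivial C := (Subgroup.nontrivial_iff_ne_bot C).2 hne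
  have h1 := hC.center_nontrivial
  have h2 : IsPGroup l (Subgroup.center C) := hC.to_subgroup _
  have h3 : l ∣ Nat.card (Subgroup.center C) := by
    obtain ⟨k, hk⟩ := (IsPGroup.iff_card.1 h2)
    have h4 : 1 < Nat.card (Subgroup.center C) := Finite.one_lt_card
    rw [hk] at h4 ⊢
    rcases Nat.eq_zero_or_pos k with rfl | hk0
    · simp at h4
    · exact dvd_pow_self l (by omega)
  obtain ⟨x, hx⟩ := exists_prime_orderOf_dvd_card' l h3
  rw [Subgroup.ne_bot_iff_exists_ne_one]
  refine ⟨⟨((x : C) : G), (x : C).2, ?_, ?_⟩, ?_⟩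
  · intro y hy
    have := Subgroup.mem_center_iff.1 x.2 ⟨y, hy⟩
    exact (congrArg Subtype.val this).symm
  · have h5 := pow_orderOf_eq_one x
    rw [hx] at h5
    have h6 := congrArg (fun a : Subgroup.center C => ((a : C) : G)) h5
    simpa using h6
  · intro h
    have h5 : ((x : C) : G) = 1 := congrArg Subtype.val h
    have h6 : x = 1 := Subtype.ext (Subtype.ext h5)
    rw [h6, orderOf_one] at hx
    exact hl.one_lt.ne hx

theorem exists_omega [Finite G] {l : ℕ} (hl : l.Prime) (A C : Subgroup G) (hA : A.Normal)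
    (hC : C.Normal) (hAC : A ≤ C) (hne : ¬ C ≤ A) (hCp : IsPGroup l C) :
    ∃ B : Subgroup G, B.Normal ∧ A ≤ B ∧ B ≤ C ∧ ¬ B ≤ A ∧
      (∀ b ∈ B, ∀ c ∈ C, b * c * b⁻¹ * c⁻¹ ∈ A) ∧ (∀ b ∈ B, b ^ l ∈ A) := by
  set π := QuotientGroup.mk' A with hπ
  have hker : ∀ x, π x = 1 ↔ x ∈ A := fun x => by
    rw [hπ, QuotientGroup.mk'_apply, QuotientGroup.eq_one_iff]
  have hCn : (C.map π).Normal := hC.map π (QuotientGroup.mk'_surjective A)
  have hCb : C.map π ≠ ⊥ := by
    intro h
    apply hne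
    intro c hc
    rw [← hker, ← Subgroup.mem_bot, ← h]
    exact Subgroup.mem_map_of_mem π hc
  have hmem : ∀ x, π x ∈ C.map π → x ∈ C := by
    intro x hx
    obtain ⟨c, hc, hcx⟩ := hx
    have h1 : c⁻¹ * x ∈ A := by
      rw [← hker, map_mul, map_inv, hcx, inv_mul_cancel]
    have h2 := mul_mem hc (hAC h1)
    simpa using h2
  refine ⟨(omC (C.map π) l).comap π, (omC_normal hCn l).comap π, ?_, ?_, ?_, ?_, ?_⟩
  · intro a ha
    rw [Subgroup.mem_comap, (hker a).2 ha]
    exact one_mem _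
  · intro b hb
    exact hmem b (Subgroup.mem_comap.1 hb).1
  · intro h
    apply omC_ne_bot hl (hCp.map π) hCb
    rw [Subgroup.eq_bot_iff_forall]
    intro x hx
    obtain ⟨y, rfl⟩ := QuotientGroup.mk'_surjective A x
    have h1 : y ∈ A := h hx
    exact (hker y).2 h1
  · intro b hb c hc
    have h1 := (Subgroup.mem_comap.1 hb).2.1 (π c) (Subgroup.mem_map_of_mem π hc)
    rw [← hker, map_mul, map_mul, map_mul, map_inv, map_inv, h1]
    group
  · intro b hb
    have h1 := (Subgroup.mem_comap.1 hb).2.2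
    rw [← hker, map_pow, h1]

/-- The set of commutators `a x a⁻¹ x⁻¹` is a group if these are central. -/
theorem exists_comm_subgroup (A K : Subgroup G) (x : G)
    (h1 : ∀ a ∈ K, a * x * a⁻¹ * x⁻¹ ∈ A) (h2 : ∀ a ∈ K, ∀ c ∈ A, a * c = c * a) :
    ∃ T : Subgroup G, ∀ c, c ∈ T ↔ ∃ a ∈ K, a * x * a⁻¹ * x⁻¹ = c := by
  refine ⟨{ carrier := {c | ∃ a ∈ K, a * x * a⁻¹ * x⁻¹ = c}, mul_mem' := ?_, one_mem' := ?_,
            inv_mem' := ?_ }, fun c => Iff.rfl⟩
  · rintro c d ⟨a, ha, rfl⟩ ⟨b, hb, rfl⟩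
    refine ⟨b * a, mul_mem hb ha, ?_⟩
    have h3 := h2 b hb _ (h1 a ha)
    calc b * a * x * (b * a)⁻¹ * x⁻¹ = (b * (a * x * a⁻¹ * x⁻¹)) * x * b⁻¹ * x⁻¹ := by group
      _ = ((a * x * a⁻¹ * x⁻¹) * b) * x * b⁻¹ * x⁻¹ := by rw [h3]
      _ = _ := by group
  · exact ⟨1, one_mem _, by group⟩
  · rintro c ⟨a, ha, rfl⟩
    refine ⟨a⁻¹, inv_mem ha, ?_⟩
    have h3 := h2 a⁻¹ (inv_mem ha) _ (inv_mem (h1 a ha))
    calc a⁻¹ * x * a⁻¹⁻¹ * x⁻¹ = (a⁻¹ * (a * x * a⁻¹ * x⁻¹)⁻¹) * a := by group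
      _ = ((a * x * a⁻¹ * x⁻¹)⁻¹ * a⁻¹) * a := by rw [h3]
      _ = _ := by group

end

end Cfsg.Agent.H895
end

-- part: H895/AffCore
section
/-!
# The core situation of the affine theorem
-/

set_option autoImplicit false

namespace Cfsg.Agent.H895

open MulAction

/-- `Q` is a normal `l`-subgroup of `H`, all abelian normal subgroups of `H` in `Q` are
semiregular, `A` is a maximal one of them, `z` is an element of order `l` in it. -/
structure Core (V : Type*) {H : Type*} [CommGroup V] [Group H] [MulDistribMulAction H V]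
    (l : ℕ) (R Q A : Subgroup H) (z : H) : Prop where
  hl : l.Prime
  hcop : Nat.Coprime l (Nat.card V)
  hR : ∀ h : H, h ∉ R → ∀ v : V, h • v = v → v = 1
  hQn : Q.Normal
  hQR : Q ≤ R
  hQp : IsPGroup l Q
  hsemi : ∀ E : Subgroup H, E.Normal → E ≤ Q → (∀ x ∈ E, ∀ y ∈ E, x * y = y * x) →
    ∀ a ∈ E, a ≠ 1 → ∀ v : V, a • v = v → v = 1
  hAn : A.Normal
  hAQ : A ≤ Q
  hAc : ∀ x ∈ A, ∀ y ∈ A, x * y = y * x
  hAmax : ∀ E : Subgroup H, E.Normal → E ≤ Q → (∀ x ∈ E, ∀ y ∈ E, x * y = y * x) →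
    A ≤ E → E ≤ A
  hzA : z ∈ A
  hzQ : ∀ q ∈ Q, z * q = q * z
  hzl : z ^ l = 1
  hz1 : z ≠ 1

section

variable {V H : Type*} [CommGroup V] [Group H] [MulDistribMulAction H V]
  {l : ℕ} {R Q A : Subgroup H} {z : H}

/-- Any nontrivial element of an `l`-group has a power of order `l`. -/
theorem exists_pow_ord {Q : Subgroup H} (hQ : IsPGroup l Q) {y : H} (hy : y ∈ Q)
    (hy1 : y ≠ 1) : ∃ k : ℕ, y ^ k ≠ 1 ∧ (y ^ k) ^ l = 1 ∧ (y ^ l ≠ 1 → ∃ j, k = l * j) := by
  obtain ⟨n, hn⟩ := hQ ⟨y, hy⟩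
  have hn' : y ^ l ^ n = 1 := by
    have := congrArg Subtype.val hn
    simpa using this
  classical
  have hex : ∃ n, y ^ l ^ n = 1 := ⟨n, hn'⟩
  have h1 := Nat.find_spec hex
  have h2 : Nat.find hex ≠ 0 := by
    intro h
    rw [h, pow_zero, pow_one] at h1
    exact hy1 h1
  obtain ⟨m, hm⟩ := Nat.exists_eq_succ_of_ne_zero h2
  refine ⟨l ^ m, ?_, ?_, ?_⟩
  · exact Nat.find_min hex (by omega)
  · rw [← pow_mul, ← pow_succ]
    rw [hm] at h1
    exact h1
  · intro hyl
    rcases Nat.eq_zero_or_pos m with rfl | hm0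
    · exfalso
      rw [hm, Nat.succ_eq_add_one, zero_add, pow_one] at h1
      exact hyl h1
    · obtain ⟨j, rfl⟩ := Nat.exists_eq_succ_of_ne_zero hm0.ne'
      exact ⟨l ^ j, by rw [Nat.succ_eq_add_one, pow_succ']⟩

theorem Core.semiA (D : Core V l R Q A z) : ∀ a ∈ A, a ≠ 1 → ∀ v : V, a • v = v → v = 1 :=
  D.hsemi A D.hAn D.hAQ D.hAc

theorem Core.zfix (D : Core V l R Q A z) : ∀ v : V, z • v = v → v = 1 :=
  D.semiA z D.hzA D.hz1

theorem Core.orderOf_z (D : Core V l R Q A z) : orderOf z = l :=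
  orderOf_eq_prime_iff (hp := ⟨D.hl⟩) |>.2 ⟨D.hzl, D.hz1⟩

theorem card_stab_ge [Finite H] {B : Subgroup H} {y : H} (hy : y ∈ B) {w : V} (hyw : y • w = w) :
    orderOf y ≤ Nat.card (B ⊓ stabilizer H w : Subgroup H) := by
  rw [← Nat.card_zpowers]
  apply Nat.card_le_card_of_injective (Subgroup.inclusion ?_) (Subgroup.inclusion_injective _)
  rw [Subgroup.zpowers_le]
  exact ⟨hy, hyw⟩

variable [Finite V] [Nontrivial V]

theorem Core.lemE (D : Core V l R Q A z) {x : H} (hxQ : x ∈ Q) (hxl : x ^ l = 1) :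
    ∃ i : ℕ, i < l ∧ ∃ v : V, v ≠ 1 ∧ (x * z ^ i) • v = v :=
  exists_fixed D.hl D.hcop (D.hzQ x hxQ).symm hxl D.hzl D.zfix

variable [Finite H]

omit [Finite H] in
theorem Core.ordA (D : Core V l R Q A z) {x : H} (hx : x ∈ A) (hxl : x ^ l = 1) :
    x ∈ Subgroup.zpowers z := by
  obtain ⟨i, _, v, hv, hxv⟩ := D.lemE (D.hAQ hx) hxl
  have h1 : x * z ^ i = 1 := by
    by_contra h
    exact hv (D.semiA _ (mul_mem hx (pow_mem D.hzA i)) h v hxv)
  rw [eq_inv_of_mul_eq_one_left h1]
  exact inv_mem (pow_mem (Subgroup.mem_zpowers z) i)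

theorem Core.z_mem_zpowers (D : Core V l R Q A z) {x : H} (hx : x ∈ A) (hxl : x ^ l = 1)
    (hx1 : x ≠ 1) : z ∈ Subgroup.zpowers x := by
  have h1 : Subgroup.zpowers x ≤ Subgroup.zpowers z := by
    rw [Subgroup.zpowers_le]; exact D.ordA hx hxl
  have h2 : orderOf x = l := orderOf_eq_prime_iff (hp := ⟨D.hl⟩) |>.2 ⟨hxl, hx1⟩
  have h3 : Subgroup.zpowers x = Subgroup.zpowers z := by
    apply Subgroup.eq_of_le_of_card_ge h1
    rw [Nat.card_zpowers, Nat.card_zpowers, h2, D.orderOf_z]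
  rw [h3]; exact Subgroup.mem_zpowers z

theorem Core.z_mem (D : Core V l R Q A z) {T : Subgroup H} (hT : T ≤ A) (hne : T ≠ ⊥) :
    z ∈ T := by
  obtain ⟨y, hy1⟩ := Subgroup.ne_bot_iff_exists_ne_one.1 hne
  have hy1' : (y : H) ≠ 1 := fun h => hy1 (Subtype.ext h)
  obtain ⟨k, hk1, hk2, _⟩ := exists_pow_ord D.hQp (D.hAQ (hT y.2)) hy1'
  have h1 := D.z_mem_zpowers (pow_mem (hT y.2) k) hk2 hk1
  have h2 : Subgroup.zpowers ((y : H) ^ k) ≤ T := by
    rw [Subgroup.zpowers_le]; exact pow_mem y.2 k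
  exact h2 h1

theorem Core.conj (D : Core V l R Q A z) {K : Subgroup H} {x : H} (hxQ : x ∈ Q)
    (h1 : ∀ a ∈ K, a * x * a⁻¹ * x⁻¹ ∈ A) (h2 : ∀ a ∈ K, ∀ c ∈ A, a * c = c * a)
    (hne : ∃ a ∈ K, a * x ≠ x * a) (i : ℕ) : ∃ h ∈ K, h * x * h⁻¹ = x * z ^ i := by
  obtain ⟨T, hT⟩ := exists_comm_subgroup A K x h1 h2
  have hTA : T ≤ A := by
    intro c hc
    obtain ⟨a, ha, rfl⟩ := (hT c).1 hc
    exact h1 a ha
  have hTne : T ≠ ⊥ := by
    intro h
    obtain ⟨a, ha, hax⟩ := hne
    have h3 : a * x * a⁻¹ * x⁻¹ ∈ T := (hT _).2 ⟨a, ha, rfl⟩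
    rw [h, Subgroup.mem_bot, mul_inv_eq_one, mul_inv_eq_iff_eq_mul] at h3
    exact hax h3
  have hz := pow_mem (D.z_mem hTA hTne) i
  obtain ⟨a, ha, hai⟩ := (hT _).1 hz
  refine ⟨a, ha, ?_⟩
  rw [mul_inv_eq_iff_eq_mul] at hai
  rw [hai]
  have : Commute z x := D.hzQ x hxQ
  exact (this.pow_left i)

theorem Core.fixle (D : Core V l R Q A z) {K : Subgroup H} {x : H} (hxQ : x ∈ Q)
    (h1 : ∀ a ∈ K, a * x * a⁻¹ * x⁻¹ ∈ A) (h2 : ∀ a ∈ K, ∀ c ∈ A, a * c = c * a)
    (hne : ∃ a ∈ K, a * x ≠ x * a) (hxl : x ^ l = 1) :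
    Nat.card (fixS V (Subgroup.zpowers x)) ^ l ≤ Nat.card V := by
  refine fix_pow_le D.hl D.hcop (D.hzQ x hxQ).symm hxl D.hzl D.zfix ?_
  intro i _
  obtain ⟨h, _, hh⟩ := D.conj hxQ h1 h2 hne i
  exact ⟨h, hh⟩

/-- The properties of the subgroups `B`. -/
structure P1 (l : ℕ) (Q A B : Subgroup H) : Prop where
  hBn : B.Normal
  hBQ : B ≤ Q
  hAB : A ≤ B
  hne : ¬ B ≤ A
  hcomm : ∀ b ∈ B, ∀ c ∈ B, b * c * b⁻¹ * c⁻¹ ∈ A
  hcen : ∀ a ∈ A, ∀ b ∈ B, a * b = b * a
  hpow : ∀ b ∈ B, b ^ l ∈ A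

omit [Finite V] [Nontrivial V] [Finite H] in
theorem Core.exists_noncomm (D : Core V l R Q A z) {B : Subgroup H} (hB : P1 l Q A B) {b : H}
    (hb : b ∈ B) (hbA : b ∉ A) : ∃ c ∈ B, c * b ≠ b * c := by
  by_contra hcon
  push Not at hcon
  set Z : Subgroup H := B ⊓ Subgroup.centralizer (B : Set H) with hZ
  have hZn : Z.Normal := by
    have := hB.hBn
    infer_instance
  have h1 : ∀ x, x ∈ Z ↔ x ∈ B ∧ ∀ c ∈ B, c * x = x * c := by
    intro x
    rw [hZ, Subgroup.mem_inf, Subgroup.mem_centralizer_iff]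
    rfl
  have h2 : Z ≤ A := by
    apply D.hAmax Z hZn (inf_le_left.trans hB.hBQ)
    · intro x hx y hy
      exact ((h1 y).1 hy).2 x ((h1 x).1 hx).1
    · intro a ha
      exact (h1 a).2 ⟨hB.hAB ha, fun c hc => (hB.hcen a ha c hc).symm⟩
  exact hbA (h2 ((h1 b).2 ⟨hb, hcon⟩))

theorem Core.Iset_props (D : Core V l R Q A z) {B : Subgroup H} (hB : P1 l Q A B) {y : H}
    (hy : y ∈ Iset V B) : y ^ l = 1 ∧ y ∉ A ∧
      Nat.card (fixS V (Subgroup.zpowers y)) ^ l ≤ Nat.card V := by
  obtain ⟨hyB, hy1, v, hv, hyv⟩ := hy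
  have h1 : y ^ l = 1 := by
    by_contra h
    apply hv
    apply D.semiA _ (hB.hpow y hyB) h
    have : y ^ l ∈ stabilizer H v := pow_mem (show y ∈ stabilizer H v from hyv) l
    exact this
  have h2 : y ∉ A := fun h => hv (D.semiA y h hy1 v hyv)
  refine ⟨h1, h2, ?_⟩
  exact D.fixle (hB.hBQ hyB) (K := B) (fun a ha => hB.hcomm a ha y hyB)
    (fun a ha c hc => (hB.hcen c hc a ha).symm) (D.exists_noncomm hB hyB h2) h1

omit [Finite H] in
theorem Core.exists_Iset (D : Core V l R Q A z) {B : Subgroup H} (hB : P1 l Q A B)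
    (h2 : ∃ x ∈ B, x ∉ A ∧ x ^ l = 1) : ∃ y ∈ Iset V B, ∃ w : V, w ≠ 1 ∧ y • w = w := by
  obtain ⟨x, hxB, hxA, hxl⟩ := h2
  obtain ⟨i, _, v, hv, hxv⟩ := D.lemE (hB.hBQ hxB) hxl
  refine ⟨x * z ^ i, ⟨mul_mem hxB (pow_mem (hB.hAB D.hzA) i), ?_, v, hv, hxv⟩, v, hv, hxv⟩
  intro h
  apply hxA
  rw [eq_inv_of_mul_eq_one_left h]
  exact inv_mem (pow_mem D.hzA i)

/-- The final count for odd primes. -/
theorem Core.fin_odd (D : Core V l R Q A z) (hl3 : 3 ≤ l) {B : Subgroup H} (hB : P1 l Q A B)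
    (h2 : ∃ x ∈ B, x ∉ A ∧ x ^ l = 1) : (R.index + 1) ^ 2 ≤ Nat.card V := by
  obtain ⟨y, hy, w, hw, hyw⟩ := D.exists_Iset hB h2
  refine bound_odd R D.hR B hB.hBn (hB.hBQ.trans D.hQR) hw ?_ ?_
  · have h3 := card_stab_ge hy.1 hyw
    have h4 : orderOf y = l :=
      orderOf_eq_prime_iff (hp := ⟨D.hl⟩) |>.2 ⟨(D.Iset_props hB hy).1, hy.2.1⟩
    omega
  · intro x hx
    exact (Nat.pow_le_pow_right Nat.card_pos hl3).trans (D.Iset_props hB hx).2.2

/-- The final count for the prime two when `|I| ≤ |B|/2`. -/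
theorem Core.fin_two (D : Core V 2 R Q A z) {B : Subgroup H} (hB : P1 2 Q A B)
    (h2 : ∃ x ∈ B, x ∉ A ∧ x ^ 2 = 1) (hI : (Iset V B).ncard * 2 ≤ Nat.card B) :
    (R.index + 1) ^ 2 ≤ Nat.card V := by
  obtain ⟨y, hy, w, hw, hyw⟩ := D.exists_Iset hB h2
  have hm : 2 ≤ Nat.card (B ⊓ stabilizer H w : Subgroup H) := by
    have h3 := card_stab_ge hy.1 hyw
    have h4 : orderOf y = 2 :=
      orderOf_eq_prime_iff (hp := ⟨D.hl⟩) |>.2 ⟨(D.Iset_props hB hy).1, hy.2.1⟩
    omega
  refine bound_two R D.hR B hB.hBn (hB.hBQ.trans D.hQR) hw hm ?_ ?_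
  · obtain ⟨k, hk⟩ : ∃ k, Nat.card (B ⊓ stabilizer H w : Subgroup H) = k + 1 :=
      ⟨_, (Nat.succ_pred_eq_of_pos (by omega)).symm⟩
    rw [hk] at hm ⊢
    rw [Nat.add_sub_cancel]
    nlinarith
  · intro x hx
    exact (D.Iset_props hB hx).2.2

/-- In the case `|A| ≥ 4` the count is automatic. -/
theorem Core.fin_two_big (D : Core V 2 R Q A z) (hA4 : 4 ≤ Nat.card A) {B : Subgroup H}
    (hB : P1 2 Q A B) (h2 : ∃ x ∈ B, x ∉ A ∧ x ^ 2 = 1) :
    (R.index + 1) ^ 2 ≤ Nat.card V := by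
  apply D.fin_two hB h2
  -- the map `I × A → B` is at most two to one
  have h3 : (Iset V B).ncard * Nat.card A ≤ 2 * Nat.card B := by
    classical
    have := Fintype.ofFinite H
    set s : Finset (H × H) := (Iset V B).toFinset ×ˢ (A : Set H).toFinset with hs
    set t : Finset H := (B : Set H).toFinset with ht
    have hmaps : Set.MapsTo (fun p : H × H => p.1 * p.2) s t := by
      intro p hp
      simp only [hs, Finset.coe_product, Set.coe_toFinset, Set.mem_prod, SetLike.mem_coe] at hp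
      simp only [ht, Set.coe_toFinset, SetLike.mem_coe]
      exact mul_mem hp.1.1 (hB.hAB hp.2)
    have hfib : ∀ b ∈ t, (s.filter (fun p => p.1 * p.2 = b)).card ≤ 2 := by
      intro b hb
      by_contra hcon
      push Not at hcon
      rw [Finset.two_lt_card_iff] at hcon
      obtain ⟨p, q, r, hp, hq, hr, hpq, hpr, hqr⟩ := hcon
      simp only [hs, Finset.mem_filter, Finset.mem_product, Set.mem_toFinset,
        SetLike.mem_coe] at hp hq hr
      -- any two elements of the fibre differ by a power of `z`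
      have key : ∀ p q : H × H, ((p.1 ∈ Iset V B ∧ p.2 ∈ A) ∧ p.1 * p.2 = b) →
          ((q.1 ∈ Iset V B ∧ q.2 ∈ A) ∧ q.1 * q.2 = b) → p ≠ q → q.1 = p.1 * z := by
        rintro ⟨y, a⟩ ⟨y', a'⟩ ⟨⟨hy, ha⟩, hya⟩ ⟨⟨hy', ha'⟩, hya'⟩ hne
        simp only at hy ha hya hy' ha' hya' ⊢
        have e1 : y' = y * (a * a'⁻¹) := by
          rw [← mul_assoc, hya, ← hya', mul_inv_cancel_right]
        have hd : a * a'⁻¹ ∈ A := mul_mem ha (inv_mem ha')
        have e2 : (a * a'⁻¹) ^ 2 = 1 := by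
          have e3 : y' ^ 2 = y ^ 2 * (a * a'⁻¹) ^ 2 := by
            rw [e1]
            have : Commute y (a * a'⁻¹) := (hB.hcen _ hd y hy.1).symm
            exact this.mul_pow 2
          rw [(D.Iset_props hB hy).1, (D.Iset_props hB hy').1, one_mul] at e3
          exact e3.symm
        have e4 := D.ordA hd e2
        rw [e1]
        congr 1
        have e5 : a * a'⁻¹ ≠ 1 := by
          intro h
          apply hne
          rw [h, mul_one] at e1
          subst e1
          rw [mul_inv_eq_one] at h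
          rw [h]
        have e6 : z ∈ Subgroup.zpowers (a * a'⁻¹) := D.z_mem_zpowers hd e2 e5
        rw [Subgroup.mem_zpowers_iff] at e6
        obtain ⟨k, hk⟩ := e6
        rcases Int.even_or_odd k with ⟨j, hj⟩ | ⟨j, hj⟩
        · exfalso
          apply D.hz1
          rw [← hk, hj, ← two_mul, zpow_mul]
          norm_cast
          rw [e2, one_zpow]
        · rw [← hk, hj, zpow_add, zpow_mul, zpow_one]
          norm_cast
          rw [e2, one_zpow, one_mul]
      have k1 := key p q hp hq hpq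
      have k2 := key p r hp hr hpr
      apply hqr
      have e1 : q.1 = r.1 := by rw [k1, k2]
      have e2 : q.1 * q.2 = r.1 * r.2 := by rw [hq.2, hr.2]
      rw [e1] at e2
      exact Prod.ext e1 (mul_left_cancel e2)
    have h4 := Finset.card_le_mul_card_image_of_maps_to hmaps 2 hfib
    rw [hs, Finset.card_product] at h4
    rw [Set.ncard_eq_toFinset_card']
    have h5 : Nat.card A = ((A : Set H).toFinset).card := by
      rw [Set.toFinset_card, Nat.card_eq_fintype_card]; rfl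
    have h6 : Nat.card B = ((B : Set H).toFinset).card := by
      rw [Set.toFinset_card, Nat.card_eq_fintype_card]; rfl
    rw [h5, h6]
    exact h4
  have h4 : (Iset V B).ncard * 4 ≤ (Iset V B).ncard * Nat.card A := Nat.mul_le_mul_left _ hA4
  omega

end

end Cfsg.Agent.H895
end

-- part: H895/AffPow
section
/-!
# Existence of elements of order `l` outside `A`
-/

set_option autoImplicit false

namespace Cfsg.Agent.H895

open MulAction

section

variable {V H : Type*} [CommGroup V] [Group H] [MulDistribMulAction H V]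
  {l : ℕ} {R Q A : Subgroup H} {z : H}

/-- The power formula in class two. -/
theorem mul_pow_class_two {b c k : H} (hcb : c * b = b * c * k) (hkb : Commute k b)
    (hkc : Commute k c) (n : ℕ) : (b * c) ^ n = b ^ n * c ^ n * k ^ (n.choose 2) := by
  have h1 : ∀ n : ℕ, c ^ n * b = b * c ^ n * k ^ n := by
    intro n
    induction n with
    | zero => simp
    | succ n ih =>
      calc c ^ (n + 1) * b = c ^ n * (c * b) := by rw [pow_succ, mul_assoc]
        _ = c ^ n * b * c * k := by rw [hcb]; simp only [mul_assoc]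
        _ = b * c ^ n * k ^ n * c * k := by rw [ih]
        _ = b * c ^ n * (k ^ n * c) * k := by simp only [mul_assoc]
        _ = b * c ^ n * (c * k ^ n) * k := by rw [(hkc.pow_left n).eq]
        _ = b * (c ^ n * c) * (k ^ n * k) := by simp only [mul_assoc]
        _ = _ := by rw [← pow_succ, ← pow_succ]
  induction n with
  | zero => simp
  | succ n ih =>
    have h2 : (n + 1).choose 2 = n + n.choose 2 := by
      rw [Nat.choose_succ_succ' n 1, Nat.choose_one_right]
    calc (b * c) ^ (n + 1) = b ^ n * c ^ n * k ^ (n.choose 2) * (b * c) := by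
          rw [pow_succ, ih]
      _ = b ^ n * c ^ n * (k ^ (n.choose 2) * (b * c)) := by simp only [mul_assoc]
      _ = b ^ n * c ^ n * ((b * c) * k ^ (n.choose 2)) := by
          rw [((hkb.mul_right hkc).pow_left (n.choose 2)).eq]
      _ = b ^ n * (c ^ n * b) * c * k ^ (n.choose 2) := by simp only [mul_assoc]
      _ = b ^ n * (b * c ^ n * k ^ n) * c * k ^ (n.choose 2) := by rw [h1]
      _ = b ^ n * b * c ^ n * (k ^ n * c) * k ^ (n.choose 2) := by simp only [mul_assoc]
      _ = b ^ n * b * c ^ n * (c * k ^ n) * k ^ (n.choose 2) := by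
          rw [(hkc.pow_left n).eq]
      _ = (b ^ n * b) * (c ^ n * c) * (k ^ n * k ^ (n.choose 2)) := by simp only [mul_assoc]
      _ = _ := by rw [← pow_succ, ← pow_succ, ← pow_add, h2]

variable [Finite V] [Nontrivial V] [Finite H]

/-- The subgroup of `l`-th powers of `A` has index `l` in `A`. -/
theorem Core.exists_pow_subgroup (D : Core V l R Q A z) :
    ∃ P : Subgroup H, (∀ x, x ∈ P ↔ ∃ a ∈ A, a ^ l = x) ∧ P ≤ A ∧ P.relIndex A = l := by
  have hcomm : ∀ x ∈ A, ∀ y ∈ A, (x * y) ^ l = x ^ l * y ^ l := by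
    intro x hx y hy
    have : Commute x y := D.hAc x hx y hy
    exact this.mul_pow l
  let φ : A →* H :=
    { toFun := fun a => (a : H) ^ l
      map_one' := by simp
      map_mul' := fun a b => hcomm a a.2 b b.2 }
  have hφ : ∀ a : A, φ a = (a : H) ^ l := fun _ => rfl
  have hmem : ∀ x, x ∈ φ.range ↔ ∃ a ∈ A, a ^ l = x := by
    intro x
    constructor
    · rintro ⟨a, rfl⟩; exact ⟨a, a.2, rfl⟩
    · rintro ⟨a, ha, rfl⟩; exact ⟨⟨a, ha⟩, rfl⟩
  have hPA : φ.range ≤ A := by
    intro x hx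
    obtain ⟨a, ha, rfl⟩ := (hmem x).1 hx
    exact pow_mem ha l
  refine ⟨φ.range, hmem, hPA, ?_⟩
  have h1 : Nat.card φ.ker = l := by
    rw [← D.orderOf_z, ← Nat.card_zpowers]
    have h2 : φ.ker.map A.subtype = Subgroup.zpowers z := by
      apply le_antisymm
      · rintro x ⟨a, ha, rfl⟩
        apply D.ordA a.2
        rw [SetLike.mem_coe, MonoidHom.mem_ker, hφ] at ha
        exact ha
      · rw [Subgroup.zpowers_le]
        exact ⟨⟨z, D.hzA⟩, by rw [SetLike.mem_coe, MonoidHom.mem_ker, hφ]; exact D.hzl, rfl⟩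
    rw [← h2]
    exact (Nat.card_congr (φ.ker.equivMapOfInjective _ A.subtype_injective).toEquiv)
  have h2 := Subgroup.card_mul_index φ.ker
  rw [Subgroup.index_ker, h1] at h2
  have h3 := Subgroup.relIndex_mul_relIndex ⊥ φ.range A bot_le hPA
  rw [Subgroup.relIndex_bot_left, Subgroup.relIndex_bot_left, ← h2, mul_comm l] at h3
  exact Nat.eq_of_mul_eq_mul_left Nat.card_pos h3

omit [Finite H] in
/-- The index being prime there is nothing between `P` and `A`. -/
theorem le_or_eq_of_relIndex_prime {P M A : Subgroup H} {l : ℕ} (hl : l.Prime)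
    (hPM : P ≤ M) (hMA : M ≤ A) (h : P.relIndex A = l) : M ≤ P ∨ A ≤ M := by
  have h1 := Subgroup.relIndex_mul_relIndex P M A hPM hMA
  rw [h] at h1
  have h2 : P.relIndex M ∣ l := Dvd.intro _ h1
  rcases (Nat.dvd_prime hl).1 h2 with h3 | h3
  · left; exact Subgroup.relIndex_eq_one.1 h3
  · right
    apply Subgroup.relIndex_eq_one.1
    rw [h3] at h1
    exact Nat.eq_of_mul_eq_mul_left hl.pos (by rw [h1, mul_one])

omit [Finite H] in
/-- Commutators of `B` have order dividing `l`. -/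
theorem P1.comm_pow {l : ℕ} {B : Subgroup H} (hB : P1 l Q A B) {b c : H} (hb : b ∈ B)
    (hc : c ∈ B) : (b * c * b⁻¹ * c⁻¹) ^ l = 1 := by
  have hk := hB.hcomm b hb c hc
  set k := b * c * b⁻¹ * c⁻¹ with hkdef
  have hkb : Commute k b := hB.hcen k hk b hb
  have hkc : Commute k c := hB.hcen k hk c hc
  have h1 : b * c = k * (c * b) := by rw [hkdef]; group
  have h2 : ∀ n : ℕ, b ^ n * c = k ^ n * (c * b ^ n) := by
    intro n
    induction n with
    | zero => simp
    | succ n ih =>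
      calc b ^ (n + 1) * c = b * (b ^ n * c) := by rw [pow_succ', mul_assoc]
        _ = b * k ^ n * (c * b ^ n) := by rw [ih, mul_assoc]
        _ = k ^ n * b * (c * b ^ n) := by rw [(hkb.pow_left n).eq]
        _ = k ^ n * (b * c) * b ^ n := by simp only [mul_assoc]
        _ = k ^ n * (k * (c * b)) * b ^ n := by rw [h1]
        _ = (k ^ n * k) * (c * (b * b ^ n)) := by simp only [mul_assoc]
        _ = _ := by rw [← pow_succ, ← pow_succ']
  have h3 := h2 l
  have h4 := hB.hcen _ (hB.hpow b hb) c hc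
  rw [h4] at h3
  exact (mul_eq_right.1 h3.symm)

theorem Core.exists_P2 (D : Core V l R Q A z) (hA4 : l = 2 → 4 ≤ Nat.card A) {B : Subgroup H}
    (hB : P1 l Q A B) : ∃ x ∈ B, x ∉ A ∧ x ^ l = 1 := by
  obtain ⟨P, hP, hPA, hPi⟩ := D.exists_pow_subgroup
  -- `z ∈ P` if `l = 2`
  have hzP : l = 2 → z ∈ P := by
    intro h2
    apply D.z_mem hPA
    intro hbot
    rw [hbot, Subgroup.relIndex_bot_left, h2] at hPi
    have := hA4 h2
    omega
  -- the power map is multiplicative modulo `P`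
  have hmul : ∀ b ∈ B, ∀ c ∈ B, ∃ q ∈ P, (b * c) ^ l = b ^ l * c ^ l * q := by
    intro b hb c hc
    have hcb : c * b = b * c * (b * c * b⁻¹ * c⁻¹)⁻¹ := by
      have h1 := hB.hcen _ (inv_mem (hB.hcomm b hb c hc)) _ (mul_mem hb hc)
      rw [← h1]; group
    have hk := inv_mem (hB.hcomm b hb c hc)
    refine ⟨_, ?_, mul_pow_class_two hcb (hB.hcen _ hk b hb) (hB.hcen _ hk c hc) l⟩
    have hkl : ((b * c * b⁻¹ * c⁻¹)⁻¹) ^ l = 1 := by
      rw [inv_pow, hB.comm_pow hb hc, inv_one]
    rcases D.hl.eq_two_or_odd' with h2 | hodd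
    · apply pow_mem
      have h3 := D.ordA hk hkl
      have h4 : Subgroup.zpowers z ≤ P := by rw [Subgroup.zpowers_le]; exact hzP h2
      exact h4 h3
    · obtain ⟨j, hj⟩ := hodd
      have h3 : l.choose 2 = l * j := by
        rw [Nat.choose_two_right, hj]
        have : (2 * j + 1) * (2 * j + 1 - 1) = 2 * ((2 * j + 1) * j) := by
          rw [Nat.add_sub_cancel]; ring
        rw [this, Nat.mul_div_cancel_left _ (by norm_num)]
      rw [h3, pow_mul, hkl, one_pow]
      exact one_mem _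
  -- an element whose power is in `P` can be corrected
  have hcorr : ∀ b ∈ B, b ∉ A → b ^ l ∈ P → ∃ x ∈ B, x ∉ A ∧ x ^ l = 1 := by
    intro b hb hbA hbl
    obtain ⟨a, ha, hal⟩ := (hP _).1 hbl
    refine ⟨b * a⁻¹, mul_mem hb (inv_mem (hB.hAB ha)), ?_, ?_⟩
    · intro h
      apply hbA
      have := mul_mem h ha
      simpa using this
    · have : Commute b a⁻¹ := (hB.hcen _ (inv_mem ha) b hb).symm
      rw [this.mul_pow, inv_pow, hal, mul_inv_cancel]
  obtain ⟨b1, hb1, hb1A⟩ := SetLike.not_le_iff_exists.1 hB.hne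
  obtain ⟨b2, hb2, hb21⟩ := D.exists_noncomm hB hb1 hb1A
  by_cases hb1P : b1 ^ l ∈ P
  · exact hcorr b1 hb1 hb1A hb1P
  · have h1 : A ≤ P ⊔ Subgroup.zpowers (b1 ^ l) := by
      have h2 : P ⊔ Subgroup.zpowers (b1 ^ l) ≤ A := by
        apply sup_le hPA
        rw [Subgroup.zpowers_le]
        exact hB.hpow b1 hb1
      rcases le_or_eq_of_relIndex_prime D.hl le_sup_left h2 hPi with h3 | h3
      · exfalso
        apply hb1P
        exact h3 (Subgroup.mem_sup_right (Subgroup.mem_zpowers _))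
      · exact h3
    -- the set of `x ∈ A` with `x = b1^(lj) p`
    have h2 : ∃ j : ℤ, ∃ p ∈ P, b2 ^ l = b1 ^ (l * j : ℤ) * p := by
      have h3 : ∀ x ∈ P ⊔ Subgroup.zpowers (b1 ^ l), ∃ j : ℤ, ∃ p ∈ P,
          x = b1 ^ (l * j : ℤ) * p := by
        intro x hx
        rw [Subgroup.sup_eq_closure] at hx
        induction hx using Subgroup.closure_induction with
        | mem x hx =>
          rcases hx with hx | hx
          · exact ⟨0, x, hx, by simp⟩
          · rw [SetLike.mem_coe, Subgroup.mem_zpowers_iff] at hx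
            obtain ⟨k, rfl⟩ := hx
            exact ⟨k, 1, one_mem _, by rw [mul_one, zpow_mul, zpow_natCast]⟩
        | one => exact ⟨0, 1, one_mem _, by simp⟩
        | mul x y _ _ ihx ihy =>
          obtain ⟨j, p, hp, rfl⟩ := ihx
          obtain ⟨j', p', hp', rfl⟩ := ihy
          refine ⟨j + j', p * p', mul_mem hp hp', ?_⟩
          have hc : Commute p (b1 ^ (l * j' : ℤ)) := by
            have : Commute p b1 := hB.hcen p (hPA hp) b1 hb1
            exact this.zpow_right _
          calc b1 ^ (l * j : ℤ) * p * (b1 ^ (l * j' : ℤ) * p')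
              = b1 ^ (l * j : ℤ) * (p * b1 ^ (l * j' : ℤ)) * p' := by simp only [mul_assoc]
            _ = b1 ^ (l * j : ℤ) * (b1 ^ (l * j' : ℤ) * p) * p' := by rw [hc.eq]
            _ = (b1 ^ (l * j : ℤ) * b1 ^ (l * j' : ℤ)) * (p * p') := by simp only [mul_assoc]
            _ = _ := by rw [← zpow_add, mul_add]
        | inv x _ ihx =>
          obtain ⟨j, p, hp, rfl⟩ := ihx
          refine ⟨-j, p⁻¹, inv_mem hp, ?_⟩
          have hc : Commute p (b1 ^ (l * j : ℤ)) := by
            have : Commute p b1 := hB.hcen p (hPA hp) b1 hb1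
            exact this.zpow_right _
          rw [← hc.eq, mul_inv_rev, mul_neg, zpow_neg]
      exact h3 _ (h1 (hB.hpow b2 hb2))
    obtain ⟨j, p, hp, hj⟩ := h2
    have hy : b1 ^ (-j) ∈ B := zpow_mem hb1 _
    obtain ⟨q, hq, hql⟩ := hmul b2 hb2 _ hy
    apply hcorr (b2 * b1 ^ (-j)) (mul_mem hb2 hy)
    · intro h
      apply hb21
      have h5 := hB.hcen _ h b1 hb1
      have h6 : Commute (b1 ^ j) b1 := (Commute.refl b1).zpow_left j
      have h7 : b2 = (b2 * b1 ^ (-j)) * b1 ^ j := by rw [zpow_neg, inv_mul_cancel_right]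
      have h8 : Commute b2 b1 := by
        rw [h7]
        exact Commute.mul_left h5 h6
      exact h8
    · rw [hql, hj]
      have h5 : (b1 ^ (-j)) ^ l = (b1 ^ (l * j : ℤ))⁻¹ := by
        rw [← zpow_natCast, ← zpow_mul, ← zpow_neg]
        congr 1
        ring
      have hc : Commute p (b1 ^ (l * j : ℤ)) := by
        have : Commute p b1 := hB.hcen p (hPA hp) b1 hb1
        exact this.zpow_right _
      rw [h5, ← hc.eq, mul_inv_cancel_right]
      exact mul_mem hp hq

end

end Cfsg.Agent.H895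
end

-- part: H895/AffSelf
section
/-!
# The case where `A` is self-centralising in `Q`
-/

set_option autoImplicit false

namespace Cfsg.Agent.H895

open MulAction

section

variable {V H : Type*} [CommGroup V] [Group H] [MulDistribMulAction H V]
  {l : ℕ} {R Q A : Subgroup H} {z : H}

variable [Finite V] [Nontrivial V] [Finite H]

omit [Nontrivial V] [Finite V] [Finite H] in
/-- A power of order `l` of an element of `Iset V Q`. -/
theorem Core.pow_Iset (D : Core V l R Q A z) {y : H} (hy : y ∈ Iset V Q) :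
    ∃ k : ℕ, y ^ k ∈ Iset V Q ∧ (y ^ k) ^ l = 1 ∧ y ^ k ∉ A ∧
      (y ^ l ≠ 1 → ∃ j, k = l * j) := by
  obtain ⟨hyQ, hy1, v, hv, hyv⟩ := hy
  obtain ⟨k, hk1, hk2, hk3⟩ := exists_pow_ord D.hQp hyQ hy1
  have h1 : y ^ k • v = v := by
    have : y ^ k ∈ stabilizer H v := pow_mem (show y ∈ stabilizer H v from hyv) k
    exact this
  exact ⟨k, ⟨pow_mem hyQ k, hk1, v, hv, h1⟩, hk2, fun h => hv (D.semiA _ h hk1 v h1), hk3⟩

omit [Nontrivial V] [Finite H] in
theorem card_fixS_le_pow (y : H) (k : ℕ) :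
    Nat.card (fixS V (Subgroup.zpowers y)) ≤ Nat.card (fixS V (Subgroup.zpowers (y ^ k))) := by
  have h : fixS V (Subgroup.zpowers y) ≤ fixS V (Subgroup.zpowers (y ^ k)) := by
    apply fixS_anti
    rw [Subgroup.zpowers_le]
    exact pow_mem (Subgroup.mem_zpowers y) k
  exact Nat.card_le_card_of_injective (Subgroup.inclusion h) (Subgroup.inclusion_injective h)

/-- Fixed spaces of elements of order `l` outside `A`. -/
theorem Core.fix_self (D : Core V l R Q A z) (hself : ∀ q ∈ Q, (∀ a ∈ A, a * q = q * a) → q ∈ A)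
    {x : H} (hx : x ∈ Q) (hxA : x ∉ A) (hxl : x ^ l = 1) :
    Nat.card (fixS V (Subgroup.zpowers x)) ^ l ≤ Nat.card V := by
  refine D.fixle hx (K := A) ?_ D.hAc ?_ hxl
  · intro a ha
    have h1 := mul_mem ha (D.hAn.conj_mem _ (inv_mem ha) x)
    simpa only [mul_assoc] using h1
  · by_contra hcon
    push Not at hcon
    exact hxA (hself x hx hcon)

/-- `A` self-centralising, `l` odd. -/
theorem Core.self_odd (D : Core V l R Q A z) (hl3 : 3 ≤ l)
    (hself : ∀ q ∈ Q, (∀ a ∈ A, a * q = q * a) → q ∈ A) {y : H} (hy : y ∈ Iset V Q) :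
    (R.index + 1) ^ 2 ≤ Nat.card V := by
  obtain ⟨k, hk, hkl, hkA, _⟩ := D.pow_Iset hy
  obtain ⟨_, hk1, w, hw, hkw⟩ := hk
  refine bound_odd R D.hR Q D.hQn D.hQR hw ?_ ?_
  · have h3 := card_stab_ge (B := Q) (pow_mem hy.1 k) hkw
    have h4 : orderOf (y ^ k) = l :=
      orderOf_eq_prime_iff (hp := ⟨D.hl⟩) |>.2 ⟨hkl, hk1⟩
    omega
  · intro x hx
    obtain ⟨j, hj, hjl, hjA, _⟩ := D.pow_Iset hx
    have h1 := D.fix_self hself hj.1 hjA hjl
    calc Nat.card (fixS V (Subgroup.zpowers x)) ^ 3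
        ≤ Nat.card (fixS V (Subgroup.zpowers (x ^ j))) ^ 3 :=
          Nat.pow_le_pow_left (card_fixS_le_pow x j) 3
      _ ≤ Nat.card (fixS V (Subgroup.zpowers (x ^ j))) ^ l :=
          Nat.pow_le_pow_right Nat.card_pos hl3
      _ ≤ _ := h1

omit [Finite H] in
/-- For `l = 2` the elements of `A` of order two. -/
theorem Core.ordA_two (D : Core V 2 R Q A z) {x : H} (hx : x ∈ A) (hx2 : x * x = 1) :
    x = 1 ∨ x = z := by
  have h1 := D.ordA hx (by rw [pow_two]; exact hx2)
  obtain ⟨k, hk⟩ := Subgroup.mem_zpowers_iff.1 h1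
  have hz2 : z ^ (2 : ℤ) = 1 := by
    have := D.hzl
    norm_cast
  rcases Int.even_or_odd k with ⟨j, hj⟩ | ⟨j, hj⟩
  · left
    rw [← hk, hj, ← two_mul, zpow_mul, hz2, one_zpow]
  · right
    rw [← hk, hj, zpow_add, zpow_mul, hz2, one_zpow, zpow_one, one_mul]

omit [Nontrivial V] [Finite V] [Finite H] in
theorem Core.zz (D : Core V 2 R Q A z) : z * z = 1 := by
  rw [← pow_two]; exact D.hzl

omit [Finite H] in
/-- `z` is central in `H`. -/
theorem Core.z_conj (D : Core V 2 R Q A z) (h : H) : h * z * h⁻¹ = z := by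
  have h1 : h * z * h⁻¹ ∈ A := D.hAn.conj_mem _ D.hzA h
  rcases D.ordA_two h1 (by
    calc h * z * h⁻¹ * (h * z * h⁻¹) = h * (z * z) * h⁻¹ := by group
      _ = 1 := by rw [D.zz]; group) with h2 | h2
  · exfalso
    apply D.hz1
    rw [mul_inv_eq_one] at h2
    exact mul_eq_left.1 h2
  · exact h2

omit [Finite H] in
theorem Core.z_comm (D : Core V 2 R Q A z) (h : H) : h * z = z * h := by
  have := D.z_conj h
  rw [mul_inv_eq_iff_eq_mul] at this
  exact this

/-- The kernel of `[·, u]` on `A` is the group of squares. -/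
theorem Core.comm_iff_square (D : Core V 2 R Q A z) {u : H}
    (hu : ∀ a ∈ A, a * u = u * a ∨ a * u = z * (u * a)) (hne : ∃ a ∈ A, a * u ≠ u * a)
    {a : H} (ha : a ∈ A) : a * u = u * a ↔ ∃ b ∈ A, b * b = a := by
  obtain ⟨P, hP, hPA, hPi⟩ := D.exists_pow_subgroup
  set M : Subgroup H := A ⊓ Subgroup.centralizer {u} with hM
  have hMm : ∀ x, x ∈ M ↔ x ∈ A ∧ x * u = u * x := by
    intro x
    rw [hM, Subgroup.mem_inf, Subgroup.mem_centralizer_singleton_iff]
  have hsq : ∀ b ∈ A, (b * b) * u = u * (b * b) := by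
    intro b hb
    rcases hu b hb with h | h
    · calc b * b * u = b * (b * u) := by rw [mul_assoc]
        _ = (b * u) * b := by rw [h, ← mul_assoc, h]
        _ = _ := by rw [h, mul_assoc]
    · calc b * b * u = b * (b * u) := by rw [mul_assoc]
        _ = b * z * (u * b) := by rw [h, ← mul_assoc]
        _ = z * (b * u) * b := by rw [D.z_comm]; simp only [mul_assoc]
        _ = (z * z) * (u * b) * b := by rw [h]; simp only [mul_assoc]
        _ = _ := by rw [D.zz, one_mul, mul_assoc]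
  have hPM : P ≤ M := by
    intro x hx
    obtain ⟨b, hb, rfl⟩ := (hP x).1 hx
    rw [hMm, pow_two]
    exact ⟨mul_mem hb hb, hsq b hb⟩
  constructor
  · intro h
    rcases le_or_eq_of_relIndex_prime D.hl hPM inf_le_left hPi with h1 | h1
    · obtain ⟨b, hb, hba⟩ := (hP a).1 (h1 ((hMm a).2 ⟨ha, h⟩))
      exact ⟨b, hb, by rw [← pow_two]; exact hba⟩
    · exfalso
      obtain ⟨a', ha', hne⟩ := hne
      exact hne ((hMm a').1 (h1 ha')).2
  · rintro ⟨b, hb, rfl⟩
    exact hsq b hb

/-- There is no involution outside `A` centralising an element of order four of `A`. -/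
theorem Core.no_inv (D : Core V 2 R Q A z)
    (hself : ∀ q ∈ Q, (∀ a ∈ A, a * q = q * a) → q ∈ A) {c : H} (hcA : c ∈ A) (hcz : c * c = z)
    {x : H} (hxQ : x ∈ Q) (hxA : x ∉ A) (hx2 : x * x = 1) (hxc : x * c = c * x) : False := by
  have hxinv : x⁻¹ = x := inv_eq_of_mul_eq_one_left hx2
  -- elements of `A` of order dividing four commute with `x`
  have h4 : ∀ s ∈ A, s * s = 1 ∨ s * s = z → s * x = x * s := by
    intro s hs hs2
    rcases hs2 with h | h
    · rcases D.ordA_two hs h with h' | h'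
      · rw [h']; rw [one_mul, mul_one]
      · rw [h']; exact (D.z_comm x).symm
    · have h1 : (s * c⁻¹) * (s * c⁻¹) = 1 := by
        have : Commute s c⁻¹ := (show Commute s c from D.hAc s hs c hcA).inv_right
        calc (s * c⁻¹) * (s * c⁻¹) = (s * s) * (c⁻¹ * c⁻¹) := by
              rw [mul_assoc, ← mul_assoc c⁻¹, ← this.eq]; simp only [mul_assoc]
          _ = z * (c * c)⁻¹ := by rw [h, mul_inv_rev]
          _ = 1 := by rw [hcz, mul_inv_cancel]
      rcases D.ordA_two (mul_mem hs (inv_mem hcA)) h1 with h' | h'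
      · rw [mul_inv_eq_one] at h'
        rw [h', hxc]
      · rw [mul_inv_eq_iff_eq_mul] at h'
        rw [h', mul_assoc, ← hxc, ← mul_assoc, ← D.z_comm x, mul_assoc]
  -- commutators lie in `⟨z⟩`
  obtain ⟨T, hT⟩ := exists_comm_subgroup A A x (by
    intro a ha
    have h1 := mul_mem ha (D.hAn.conj_mem _ (inv_mem ha) x)
    simpa only [mul_assoc] using h1) D.hAc
  have hTA : T ≤ A := by
    intro t ht
    obtain ⟨a, ha, rfl⟩ := (hT t).1 ht
    have h1 := mul_mem ha (D.hAn.conj_mem _ (inv_mem ha) x)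
    simpa only [mul_assoc] using h1
  have hTinv : ∀ t ∈ T, x * t * x⁻¹ = t⁻¹ := by
    intro t ht
    obtain ⟨a, ha, rfl⟩ := (hT t).1 ht
    calc x * (a * x * a⁻¹ * x⁻¹) * x⁻¹ = x * a * x * a⁻¹ * (x * x)⁻¹ := by group
      _ = x * a * x * a⁻¹ := by rw [hx2, inv_one, mul_one]
      _ = x * a * x⁻¹ * a⁻¹ := by rw [hxinv]
      _ = _ := by group
  have hT2 : ∀ t ∈ T, t * t = 1 := by
    intro t ht
    by_contra hne
    have h1 : Subgroup.zpowers (t * t) ≠ ⊥ := by
      rw [Ne, Subgroup.zpowers_eq_bot]; exact hne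
    have h2 : Subgroup.zpowers (t * t) ≤ A := by
      rw [Subgroup.zpowers_le]
      exact mul_mem (hTA ht) (hTA ht)
    obtain ⟨k, hk⟩ := Subgroup.mem_zpowers_iff.1 (D.z_mem h2 h1)
    have hs : t ^ k * t ^ k = z := by rw [← (Commute.refl t).mul_zpow]; exact hk
    have hsT : t ^ k ∈ T := zpow_mem ht k
    have h3 := hTinv _ hsT
    have h5 := h4 _ (hTA hsT) (Or.inr hs)
    rw [← h5, mul_inv_cancel_right] at h3
    apply D.hz1
    rw [← hs]
    nth_rewrite 1 [h3]
    rw [inv_mul_cancel]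
  -- all commutators of elements `x' ∈ Q \ A`, conjugate to `x`
  have hx_or : ∀ a ∈ A, a * x = x * a ∨ a * x = z * (x * a) := by
    intro a ha
    have h1 : a * x * a⁻¹ * x⁻¹ ∈ T := (hT _).2 ⟨a, ha, rfl⟩
    rcases D.ordA_two (hTA h1) (hT2 _ h1) with h2 | h2
    · left
      rw [mul_inv_eq_one, mul_inv_eq_iff_eq_mul] at h2
      exact h2
    · right
      rw [mul_inv_eq_iff_eq_mul, mul_inv_eq_iff_eq_mul, mul_assoc] at h2
      exact h2
  have hx_ne : ∃ a ∈ A, a * x ≠ x * a := by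
    by_contra hcon
    push Not at hcon
    exact hxA (hself x hxQ hcon)
  -- conjugates of `x`
  have hconj : ∀ h : H, h * x * h⁻¹ = x ∨ h * x * h⁻¹ = x * z := by
    intro h
    obtain ⟨y, hy⟩ : ∃ y, y = h * x * h⁻¹ := ⟨_, rfl⟩
    rw [← hy]
    have hyQ : y ∈ Q := hy ▸ D.hQn.conj_mem _ hxQ h
    have hy2 : y * y = 1 := by
      rw [hy]
      calc h * x * h⁻¹ * (h * x * h⁻¹) = h * (x * x) * h⁻¹ := by group
        _ = 1 := by rw [hx2]; group
    have hconjA : ∀ a ∈ A, h⁻¹ * a * h ∈ A := by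
      intro a ha
      have := D.hAn.conj_mem _ ha h⁻¹
      rwa [inv_inv] at this
    have hy_or : ∀ a ∈ A, a * y = y * a ∨ a * y = z * (y * a) := by
      intro a ha
      have e1 : a * y = h * ((h⁻¹ * a * h) * x) * h⁻¹ := by rw [hy]; group
      have e2 : y * a = h * (x * (h⁻¹ * a * h)) * h⁻¹ := by rw [hy]; group
      rcases hx_or _ (hconjA a ha) with h' | h'
      · left; rw [e1, e2, h']
      · right
        rw [e1, e2, h']
        rw [← mul_assoc h z, D.z_comm h]
        simp only [mul_assoc]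
    have hy_ne : ∃ a ∈ A, a * y ≠ y * a := by
      obtain ⟨a, ha, hne⟩ := hx_ne
      refine ⟨h * a * h⁻¹, D.hAn.conj_mem _ ha h, ?_⟩
      intro h'
      apply hne
      have e1 : a * x = h⁻¹ * ((h * a * h⁻¹) * y) * h := by rw [hy]; group
      have e2 : x * a = h⁻¹ * (y * (h * a * h⁻¹)) * h := by rw [hy]; group
      rw [e1, e2, h']
    have hxy : x * y ∈ A := by
      apply hself _ (mul_mem hxQ hyQ)
      intro a ha
      by_cases hc : ∃ b ∈ A, b * b = a
      · have h1 := (D.comm_iff_square hx_or hx_ne ha).2 hc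
        have h2 := (D.comm_iff_square hy_or hy_ne ha).2 hc
        calc a * (x * y) = x * (a * y) := by rw [← mul_assoc, h1, mul_assoc]
          _ = x * y * a := by rw [h2, mul_assoc]
      · have h1 : a * x = z * (x * a) := (hx_or a ha).resolve_left
          (fun h => hc ((D.comm_iff_square hx_or hx_ne ha).1 h))
        have h2 : a * y = z * (y * a) := (hy_or a ha).resolve_left
          (fun h => hc ((D.comm_iff_square hy_or hy_ne ha).1 h))
        calc a * (x * y) = z * x * (a * y) := by rw [← mul_assoc, h1]; simp only [mul_assoc]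
          _ = z * (x * z) * (y * a) := by rw [h2]; simp only [mul_assoc]
          _ = (z * z) * (x * y) * a := by rw [D.z_comm]; simp only [mul_assoc]
          _ = _ := by rw [D.zz, one_mul]
    -- write `y = x a`
    obtain ⟨a, ha⟩ : ∃ a, a = x * y := ⟨_, rfl⟩
    rw [← ha] at hxy
    have hya : y = x * a := by rw [ha, ← mul_assoc, hx2, one_mul]
    have hk : (x * a * x⁻¹) * a = 1 := by
      have h1 := hy2
      rw [hya] at h1
      rw [hxinv]
      simpa only [mul_assoc] using h1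
    have ha4 : a * a = 1 ∨ a * a = z := by
      rcases hx_or a hxy with h' | h'
      · left
        rw [← h', mul_inv_cancel_right] at hk
        exact hk
      · right
        have e1 : x * a = z * (a * x) := by
          rw [h', ← mul_assoc, D.zz, one_mul]
        rw [e1] at hk
        have e2 : z * (a * a) = 1 := by
          rw [← hk]; group
        calc a * a = z * (z * (a * a)) := by rw [← mul_assoc z z, D.zz, one_mul]
          _ = z := by rw [e2, mul_one]
    have hcx := h4 a hxy ha4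
    have ha2 : a * a = 1 := by
      rw [← hcx, mul_inv_cancel_right] at hk
      exact hk
    rcases D.ordA_two hxy ha2 with h' | h'
    · left; rw [hya, h', mul_one]
    · right; rw [hya, h']
  -- the group generated by `x` and `z`
  set E : Subgroup H := Subgroup.closure {x, z} with hE
  have hxE : x ∈ E := Subgroup.subset_closure (by simp)
  have hzE : z ∈ E := Subgroup.subset_closure (by simp)
  have hEn : E.Normal := by
    constructor
    intro n hn g
    rw [hE] at hn
    induction hn using Subgroup.closure_induction with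
    | mem y hy =>
      rcases hy with rfl | hy
      · rcases hconj g with h' | h'
        · rw [h']; exact hxE
        · rw [h']; exact mul_mem hxE hzE
      · rw [Set.mem_singleton_iff] at hy
        rw [hy, D.z_conj]; exact hzE
    | one => rw [mul_one, mul_inv_cancel]; exact one_mem _
    | mul a b _ _ iha ihb =>
      have := mul_mem iha ihb
      have e : g * (a * b) * g⁻¹ = g * a * g⁻¹ * (g * b * g⁻¹) := by group
      rw [e]; exact this
    | inv a _ iha =>
      have e : g * a⁻¹ * g⁻¹ = (g * a * g⁻¹)⁻¹ := by group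
      rw [e]; exact inv_mem iha
  have hEQ : E ≤ Q := by
    rw [hE, Subgroup.closure_le]
    rintro y (rfl | hy)
    · exact hxQ
    · rw [Set.mem_singleton_iff] at hy
      rw [hy]; exact D.hAQ D.hzA
  have hEc : ∀ a ∈ E, ∀ b ∈ E, a * b = b * a := by
    have hxc : ∀ b ∈ E, x * b = b * x := by
      intro b hb
      have : E ≤ Subgroup.centralizer {x} := by
        rw [hE, Subgroup.closure_le]
        rintro y (rfl | hy)
        · rw [SetLike.mem_coe, Subgroup.mem_centralizer_singleton_iff]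
        · rw [Set.mem_singleton_iff] at hy
          rw [hy, SetLike.mem_coe, Subgroup.mem_centralizer_singleton_iff]
          exact (D.z_comm x).symm
      exact (Subgroup.mem_centralizer_singleton_iff.1 (this hb)).symm
    intro a ha b hb
    have : E ≤ Subgroup.centralizer {b} := by
      rw [hE, Subgroup.closure_le]
      rintro y (rfl | hy)
      · rw [SetLike.mem_coe, Subgroup.mem_centralizer_singleton_iff]
        exact hxc b hb
      · rw [Set.mem_singleton_iff] at hy
        rw [hy, SetLike.mem_coe, Subgroup.mem_centralizer_singleton_iff]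
        exact (D.z_comm b).symm
    exact Subgroup.mem_centralizer_singleton_iff.1 (this ha)
  obtain ⟨i, _, v, hv, hxv⟩ := D.lemE hxQ (by rw [pow_two]; exact hx2)
  apply hv
  apply D.hsemi E hEn hEQ hEc _ (mul_mem hxE (pow_mem hzE i)) _ v hxv
  intro h
  apply hxA
  rw [eq_inv_of_mul_eq_one_left h]
  exact inv_mem (pow_mem D.hzA i)

/-- `A` self-centralising, `l = 2`. -/
theorem Core.self_two (D : Core V 2 R Q A z)
    (hself : ∀ q ∈ Q, (∀ a ∈ A, a * q = q * a) → q ∈ A) {r : H} (hr : r ∈ Iset V Q) :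
    (R.index + 1) ^ 2 ≤ Nat.card V := by
  -- an element of order four
  obtain ⟨c, hcA, hcz⟩ : ∃ c ∈ A, c * c = z := by
    obtain ⟨P, hP, hPA, hPi⟩ := D.exists_pow_subgroup
    have hPne : P ≠ ⊥ := by
      intro hbot
      obtain ⟨k, hk, hkl, hkA, _⟩ := D.pow_Iset hr
      apply hkA
      apply hself _ hk.1
      intro a ha
      have h1 : a * a = 1 := by
        have : a ^ 2 ∈ P := (hP _).2 ⟨a, ha, rfl⟩
        rw [hbot, Subgroup.mem_bot, pow_two] at this
        exact this
      rcases D.ordA_two ha h1 with h | h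
      · rw [h, one_mul, mul_one]
      · rw [h]; exact (D.z_comm _).symm
    obtain ⟨c, hc, hcz⟩ := (hP z).1 (D.z_mem hPA hPne)
    exact ⟨c, hc, by rw [← pow_two]; exact hcz⟩
  -- action on `c`
  have hcconj : ∀ h : H, h * c = c * h ∨ h * c = z * (c * h) := by
    intro h
    have h1 : h * c * h⁻¹ * c⁻¹ ∈ A := mul_mem (D.hAn.conj_mem _ hcA h) (inv_mem hcA)
    have h2 : (h * c * h⁻¹ * c⁻¹) * (h * c * h⁻¹ * c⁻¹) = 1 := by
      have e1 : Commute (h * c * h⁻¹) c⁻¹ :=
        D.hAc _ (D.hAn.conj_mem _ hcA h) _ (inv_mem hcA)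
      calc (h * c * h⁻¹ * c⁻¹) * (h * c * h⁻¹ * c⁻¹)
          = (h * c * h⁻¹) * (c⁻¹ * (h * c * h⁻¹)) * c⁻¹ := by simp only [mul_assoc]
        _ = (h * c * h⁻¹) * ((h * c * h⁻¹) * c⁻¹) * c⁻¹ := by rw [e1.eq]
        _ = h * (c * c) * h⁻¹ * (c * c)⁻¹ := by group
        _ = 1 := by rw [hcz, D.z_conj, mul_inv_cancel]
    rcases D.ordA_two h1 h2 with h3 | h3
    · left
      rw [mul_inv_eq_one, mul_inv_eq_iff_eq_mul] at h3
      exact h3
    · right
      rw [mul_inv_eq_iff_eq_mul, mul_inv_eq_iff_eq_mul, mul_assoc] at h3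
      exact h3
  have hprod : ∀ h g : H, h * c ≠ c * h → g * c ≠ c * g → (h * g) * c = c * (h * g) := by
    intro h g hh hg
    have h1 := (hcconj h).resolve_left hh
    have h2 := (hcconj g).resolve_left hg
    calc h * g * c = h * (g * c) := by rw [mul_assoc]
      _ = h * z * (c * g) := by rw [h2, ← mul_assoc]
      _ = z * (h * c) * g := by rw [D.z_comm]; simp only [mul_assoc]
      _ = (z * z) * (c * h) * g := by rw [h1]; simp only [mul_assoc]
      _ = _ := by rw [D.zz, one_mul, mul_assoc]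
  -- the elements of `I`
  have hI : ∀ y ∈ Iset V Q, y ∉ A ∧ y * y = 1 ∧ y * c ≠ c * y := by
    intro y hy
    have hyA : y ∉ A := by
      intro h
      obtain ⟨_, hy1, v, hv, hyv⟩ := hy
      exact hv (D.semiA y h hy1 v hyv)
    obtain ⟨k, hk, hkl, hkA, hkj⟩ := D.pow_Iset hy
    have hy2 : y * y = 1 := by
      by_contra hne
      rw [← pow_two] at hne
      obtain ⟨j, rfl⟩ := hkj hne
      apply D.no_inv hself hcA hcz hk.1 hkA (by rw [← pow_two]; exact hkl)
      have e : y ^ (2 * j) = y ^ j * y ^ j := by rw [two_mul, pow_add]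
      rw [e]
      by_cases hc : y ^ j * c = c * y ^ j
      · rw [mul_assoc, hc, ← mul_assoc, hc, mul_assoc]
      · exact hprod _ _ hc hc
    refine ⟨hyA, hy2, ?_⟩
    intro h
    exact D.no_inv hself hcA hcz hy.1 hyA hy2 h
  obtain ⟨hrQ, hr1, w, hw, hrw⟩ := hr
  have hrI : r ∈ Iset V Q := ⟨hrQ, hr1, w, hw, hrw⟩
  have hr' := hI r hrI
  have hm : 2 ≤ Nat.card (Q ⊓ stabilizer H w : Subgroup H) := by
    have h3 := card_stab_ge (B := Q) hrQ hrw
    have h4 : orderOf r = 2 :=
      orderOf_eq_prime_iff (hp := ⟨D.hl⟩) |>.2 ⟨by rw [pow_two]; exact hr'.2.1, hr1⟩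
    omega
  have hcount : (Iset V Q).ncard * 2 ≤ Nat.card Q := by
    set U : Set H := {q | q ∈ Q ∧ q * c = c * q} with hU
    have h1 : (Iset V Q).ncard ≤ U.ncard := by
      apply Set.ncard_le_ncard_of_injOn (fun y => y * r)
      · intro y hy
        exact ⟨mul_mem hy.1 hrQ, hprod y r (hI y hy).2.2 hr'.2.2⟩
      · intro y _ y' _ h
        exact mul_right_cancel h
    have h2 : Disjoint (Iset V Q) U := by
      rw [Set.disjoint_left]
      intro y hy hyU
      exact (hI y hy).2.2 hyU.2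
    have h3 : (Iset V Q ∪ U).ncard ≤ (Q : Set H).ncard := by
      apply Set.ncard_le_ncard _ (Set.toFinite _)
      rintro y (hy | hy)
      · exact hy.1
      · exact hy.1
    rw [Set.ncard_union_eq h2 (Set.toFinite _) (Set.toFinite _)] at h3
    have h4 : (Q : Set H).ncard = Nat.card Q := (Nat.card_coe_set_eq _).symm
    omega
  refine bound_two R D.hR Q D.hQn D.hQR hw hm ?_ ?_
  · obtain ⟨k, hk⟩ : ∃ k, Nat.card (Q ⊓ stabilizer H w : Subgroup H) = k + 1 :=
      ⟨_, (Nat.succ_pred_eq_of_pos (by omega)).symm⟩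
    rw [hk] at hm ⊢
    rw [Nat.add_sub_cancel]
    nlinarith
  · intro x hx
    have h5 := hI x hx
    exact D.fix_self hself hx.1 h5.1 (by rw [pow_two]; exact h5.2.1)

end

end Cfsg.Agent.H895
end
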