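import Mathlib
import Cfsg.Agent.H895.AffBasic
import Cfsg.Agent.H895.AffSelf
set_option linter.all false

-- part: H394/AffAb
section
/-!
# The affine bound: invariant subgroups and abelian normal subgroups
-/

set_option autoImplicit false

namespace Cfsg.Agent.H394.AffAb

open MulAction Cfsg.Agent.H895

section

variable {V H : Type*} [CommGroup V] [Finite V] [Group H] [Finite H] [MulDistribMulAction H V]

/-- The index of `R` divides the size of every invariant set missing `1`. -/
theorem index_dvd_of_inv (R : Subgroup H) (hR : ∀ h : H, h ∉ R → ∀ v : V, h • v = v → v = 1)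
    (S : Set V) (hS : ∀ h : H, ∀ v ∈ S, h • v ∈ S) (h1 : (1 : V) ∉ S) :
    R.index ∣ Nat.card S := by
  let X : SubMulAction H V := ⟨S, fun h {v} hv => hS h v hv⟩
  have key := Cfsg.Agent.H393.index_dvd_card_of_stabilizer_le (H := H) (X := X) R ?_
  · exact key
  · intro x h hx
    by_contra hh
    rw [mem_stabilizer_iff] at hx
    have h2 : h • (x : V) = x := congrArg Subtype.val hx
    have h3 := hR h hh _ h2
    exact h1 (h3 ▸ x.2)

theorem index_dvd_card_sub_one (R : Subgroup H)
    (hR : ∀ h : H, h ∉ R → ∀ v : V, h • v = v → v = 1)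
    (W : Subgroup V) (hW : ∀ h : H, ∀ w ∈ W, h • w ∈ W) :
    R.index ∣ Nat.card W - 1 := by
  have key := index_dvd_of_inv R hR ((W : Set V) \ {1}) ?_ ?_
  · have h2 : ((W : Set V) \ {1}).ncard = (W : Set V).ncard - 1 :=
      Set.ncard_sdiff_singleton_of_mem (one_mem W)
    rw [Nat.card_coe_set_eq, h2] at key
    exact key
  · rintro h v ⟨hv, hv1⟩
    refine ⟨hW h v hv, ?_⟩
    intro h3
    apply hv1
    have h4 : h • v = 1 := h3
    rw [← smul_one h] at h4
    exact MulAction.injective h h4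
  · intro h
    exact h.2 rfl

theorem inv_bound (R : Subgroup H) (_hRn : R.Normal)
    (hR : ∀ h : H, h ∉ R → ∀ v : V, h • v = v → v = 1)
    (W : Subgroup V) (hW : ∀ h : H, ∀ w ∈ W, h • w ∈ W) (hW1 : W ≠ ⊥) (hW2 : W ≠ ⊤) :
    (R.index + 1) ^ 2 ≤ Nat.card V := by
  have h1 := index_dvd_card_sub_one R hR W hW
  have h2 := index_dvd_card_sub_one R hR (⊤ : Subgroup V) (fun _ _ _ => Subgroup.mem_top _)
  rw [Subgroup.card_top] at h2
  have h3 : Nat.card W * W.index = Nat.card V := W.card_mul_index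
  have h4 : 1 < Nat.card W := Subgroup.one_lt_card_iff_ne_bot W |>.2 hW1
  have h5 : W.index ≠ 1 := fun h => hW2 (Subgroup.index_eq_one.1 h)
  have h6 : W.index ≠ 0 := Subgroup.index_ne_zero_of_finite
  have h7 : R.index ∣ W.index - 1 := by
    have e : Nat.card V - 1 = (Nat.card W - 1) * W.index + (W.index - 1) := by
      rw [← h3]
      obtain ⟨a, ha⟩ : ∃ a, Nat.card W = a + 1 := ⟨Nat.card W - 1, by omega⟩
      obtain ⟨b, hb⟩ : ∃ b, W.index = b + 1 := ⟨W.index - 1, by omega⟩
      rw [ha, hb]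
      simp only [Nat.add_sub_cancel]
      have : (a + 1) * (b + 1) = a * (b + 1) + b + 1 := by ring
      omega
    rw [e] at h2
    exact (Nat.dvd_add_right (Dvd.dvd.mul_right h1 _)).1 h2
  have h8 : R.index + 1 ≤ Nat.card W := by
    have := Nat.le_of_dvd (by omega) h1
    omega
  have h9 : R.index + 1 ≤ W.index := by
    have := Nat.le_of_dvd (by omega) h7
    omega
  rw [pow_two, ← h3]
  exact Nat.mul_le_mul h8 h9

theorem numeric (t u : ℕ) : (((t + 2) * u) + 2) ^ 2 ≤ 4 * (1 + u) ^ (t + 2) := by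
  induction t with
  | zero => exact le_of_eq (by ring)
  | succ t ih =>
    have h1 : ((t + 1 + 2) * u + 2) ^ 2 ≤ (1 + u) * ((t + 2) * u + 2) ^ 2 := by
      have e : (1 + u) * ((t + 2) * u + 2) ^ 2 =
        ((t + 1 + 2) * u + 2) ^ 2 + u * (t ^ 2 * u ^ 2 + 4 * t * u ^ 2 + 4 * u ^ 2 +
          2 * t * u + 3 * u) := by ring
      rw [e]; exact Nat.le_add_right _ _
    calc ((t + 1 + 2) * u + 2) ^ 2 ≤ (1 + u) * ((t + 2) * u + 2) ^ 2 := h1
      _ ≤ (1 + u) * (4 * (1 + u) ^ (t + 2)) := Nat.mul_le_mul_left _ ih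
      _ = 4 * (1 + u) ^ (t + 1 + 2) := by ring

omit [Finite V] [Finite H] in
/-- Fixed points of a conjugate. -/
theorem mem_fixS_conj (K : Subgroup H) (h : H) (v : V) :
    v ∈ fixS V (K.map (MulAut.conj h).toMonoidHom) ↔ h⁻¹ • v ∈ fixS V K := by
  rw [mem_fixS, mem_fixS]
  constructor
  · intro hv k hk
    have h1 := hv (h * k * h⁻¹) ⟨k, hk, rfl⟩
    rw [mul_smul, mul_smul] at h1
    rw [eq_inv_smul_iff]
    exact h1
  · rintro hv x ⟨k, hk, rfl⟩
    have h1 := hv k hk
    show (h * k * h⁻¹) • v = v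
    rw [mul_smul, mul_smul, h1, smul_inv_smul]

omit [Finite V] [Finite H] in
theorem card_fixS_map (K : Subgroup H) (h : H) :
    Nat.card (fixS V (K.map (MulAut.conj h).toMonoidHom)) = Nat.card (fixS V K) := by
  refine Nat.card_congr ⟨fun v => ⟨h⁻¹ • (v : V), (mem_fixS_conj K h (v : V)).1 v.2⟩,
    fun v => ⟨h • (v : V), (mem_fixS_conj K h (h • (v : V))).2
      (by rw [inv_smul_smul]; exact v.2)⟩, ?_, ?_⟩
  · intro v; apply Subtype.ext; simp
  · intro v; apply Subtype.ext; simp

omit [Finite V] [CommGroup V] [MulDistribMulAction H V] in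
theorem card_map_conj (K : Subgroup H) (h : H) :
    Nat.card (K.map (MulAut.conj h).toMonoidHom) = Nat.card K :=
  Subgroup.card_map_of_injective (MulEquiv.injective _)

omit [Finite V] [CommGroup V] [MulDistribMulAction H V] in
theorem map_conj_eq (K : Subgroup H) (h : H) (hle : K.map (MulAut.conj h).toMonoidHom ≤ K) :
    K.map (MulAut.conj h).toMonoidHom = K :=
  Subgroup.eq_of_le_of_card_ge hle (card_map_conj K h).ge

set_option maxHeartbeats 400000 in
theorem ab_bound [FaithfulSMul H V] (R : Subgroup H) (hRn : R.Normal)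
    (hR : ∀ h : H, h ∉ R → ∀ v : V, h • v = v → v = 1) (A : Subgroup H) (hAn : A.Normal)
    (hAR : A ≤ R) (hAc : ∀ x ∈ A, ∀ y ∈ A, x * y = y * x)
    (hcop : Nat.Coprime (Nat.card A) (Nat.card V))
    (hne : ∃ a ∈ A, a ≠ 1 ∧ ∃ v : V, v ≠ 1 ∧ a • v = v) :
    (R.index + 1) ^ 2 ≤ Nat.card V := by
  classical
  obtain ⟨a, haA, ha1, v, hv1, hav⟩ := hne
  -- choose `K` maximal
  have hfin : ({K : Subgroup H | K ≤ A ∧ a ∈ K ∧ fixS V K ≠ ⊥}).Finite := Set.toFinite _
  have hnem : ({K : Subgroup H | K ≤ A ∧ a ∈ K ∧ fixS V K ≠ ⊥}).Nonempty := by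
    refine ⟨Subgroup.zpowers a, ?_, Subgroup.mem_zpowers a, ?_⟩
    · rw [Subgroup.zpowers_le]; exact haA
    · intro h
      apply hv1
      have : v ∈ fixS V (Subgroup.zpowers a) := mem_fixS_zpowers.2 hav
      rw [h, Subgroup.mem_bot] at this
      exact this
  obtain ⟨K, ⟨hKA, haK, hKf⟩, hKmax⟩ := Set.exists_max_image _
    (fun K : Subgroup H => Nat.card K) hfin hnem
  have hmax : ∀ L : Subgroup H, L ≤ A → K ≤ L → fixS V L ≠ ⊥ → L = K := by
    intro L hLA hKL hL
    have h1 := hKmax L ⟨hLA, hKL haK, hL⟩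
    exact (Subgroup.eq_of_le_of_card_ge hKL h1).symm
  set N : Subgroup H := Subgroup.normalizer (K : Set H) with hN
  have hNmem : ∀ h : H, h ∈ N ↔ K.map (MulAut.conj h).toMonoidHom = K := by
    intro h
    rw [hN, Subgroup.mem_normalizer_iff]
    constructor
    · intro hh
      ext x
      rw [Subgroup.mem_map]
      constructor
      · rintro ⟨k, hk, rfl⟩
        exact (hh k).1 hk
      · intro hx
        refine ⟨h⁻¹ * x * h, (hh _).2 ?_, ?_⟩
        · have : h * (h⁻¹ * x * h) * h⁻¹ = x := by group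
          rw [this]; exact hx
        · show h * (h⁻¹ * x * h) * h⁻¹ = x
          group
    · intro hh x
      constructor
      · intro hx
        rw [← hh]
        exact ⟨x, hx, rfl⟩
      · intro hx
        rw [← hh] at hx
        obtain ⟨k, hk, hk2⟩ := hx
        have : h * k * h⁻¹ = h * x * h⁻¹ := hk2
        have : k = x := by simpa using this
        rw [← this]; exact hk
  have hAN : A ≤ N := by
    intro x hx
    rw [hN, Subgroup.mem_normalizer_iff]
    intro k
    constructor
    · intro hk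
      rw [hAc x hx k (hKA hk), mul_inv_cancel_right]; exact hk
    · intro hk
      have h1 : x⁻¹ * (x * k * x⁻¹) * x = k := by group
      have h2 := hAc x⁻¹ (inv_mem hx) _ (hKA hk)
      rw [h2, inv_mul_cancel_right] at h1
      rw [h1] at hk
      exact hk
  obtain ⟨w, hwK, hw1⟩ : ∃ w ∈ fixS V K, w ≠ 1 := by
    by_contra hcon
    push Not at hcon
    exact hKf ((Subgroup.eq_bot_iff_forall _).2 hcon)
  by_cases hNt : N = ⊤
  · -- `t = 1`
    refine inv_bound R hRn hR (fixS V K) ?_ hKf ?_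
    · intro h w hw
      have h1 : h⁻¹ ∈ N := by rw [hNt]; exact Subgroup.mem_top _
      rw [hNmem] at h1
      rw [← h1] at hw
      have h2 := (mem_fixS_conj K h⁻¹ w).1 hw
      rwa [inv_inv] at h2
    · intro h
      apply ha1
      apply FaithfulSMul.eq_of_smul_eq_smul (α := V)
      intro x
      have : x ∈ fixS V K := by rw [h]; exact Subgroup.mem_top _
      rw [one_smul]
      exact this a haK
  · -- `t ≥ 2`
    set q := Nat.card (fixS V K) with hq
    have hqt : q ^ N.index ≤ Nat.card V := by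
      have : Fintype (H ⧸ N) := Fintype.ofFinite _
      have key := indep (V := V) (ι := H ⧸ N)
        (fun i => K.map (MulAut.conj i.out).toMonoidHom) ?_ ?_ ?_
      · rw [Finset.prod_congr rfl (g := fun _ => q) (fun i _ => card_fixS_map K i.out)] at key
        rw [Finset.prod_const, Finset.card_univ, ← Nat.card_eq_fintype_card] at key
        exact key
      · rintro i j x ⟨k, hk, rfl⟩ y ⟨k', hk', rfl⟩
        exact hAc _ (hAn.conj_mem _ (hKA hk) _) _ (hAn.conj_mem _ (hKA hk') _)
      · intro i j hij u hui huj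
        by_contra hu
        apply hij
        -- conjugate back
        set L : Subgroup H := K ⊔ K.map (MulAut.conj (i.out⁻¹ * j.out)).toMonoidHom with hL
        have hLA : L ≤ A := by
          refine sup_le hKA ?_
          rintro _ ⟨k, hk, rfl⟩
          exact hAn.conj_mem _ (hKA hk) _
        have hLf : fixS V L ≠ ⊥ := by
          intro h
          have h1 : (i.out)⁻¹ • u ∈ fixS V L := by
            rw [hL, fixS_sup, Subgroup.mem_inf]
            refine ⟨(mem_fixS_conj K _ u).1 hui, ?_⟩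
            rw [mem_fixS_conj, mul_inv_rev, inv_inv, smul_smul, mul_assoc, mul_inv_cancel, mul_one]
            exact (mem_fixS_conj K _ u).1 huj
          rw [h, Subgroup.mem_bot] at h1
          apply hu
          rw [← smul_one (i.out)⁻¹] at h1
          exact MulAction.injective _ h1
        have hLK := hmax L hLA le_sup_left hLf
        have h2 : K.map (MulAut.conj (i.out⁻¹ * j.out)).toMonoidHom ≤ K :=
          (show K.map (MulAut.conj (i.out⁻¹ * j.out)).toMonoidHom ≤ L from
            le_sup_right).trans (le_of_eq hLK)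
        have h3 : K.map (MulAut.conj (i.out⁻¹ * j.out)).toMonoidHom = K :=
          map_conj_eq K _ h2
        have h4 : i.out⁻¹ * j.out ∈ N := (hNmem _).2 h3
        have h5 : (QuotientGroup.mk i.out : H ⧸ N) = QuotientGroup.mk j.out :=
          QuotientGroup.eq.2 h4
        have h6 : (QuotientGroup.mk i.out : H ⧸ N) = i := QuotientGroup.out_eq' i
        have h7 : (QuotientGroup.mk j.out : H ⧸ N) = j := QuotientGroup.out_eq' j
        rw [← h6, ← h7]
        exact h5
      · intro i
        rw [card_map_conj]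
        exact Nat.Coprime.coprime_dvd_left (Subgroup.card_dvd_of_le hKA) hcop
    -- orbit of `w`
    set S : Subgroup H := stabilizer H w ⊓ N with hS
    have hSR : S ≤ R := by
      intro h hh
      by_contra hhR
      exact hw1 (hR h hhR w hh.1)
    have hKS : K ≤ S := by
      intro k hk
      exact ⟨hwK k hk, hAN (hKA hk)⟩
    have hSA : ¬ A ≤ S := by
      intro hAS
      have hAK : A = K := by
        apply hmax A le_rfl hKA
        intro h
        apply hw1
        have : w ∈ fixS V A := fun x hx => (hAS hx).1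
        rw [h, Subgroup.mem_bot] at this
        exact this
      apply hNt
      rw [hN, ← hAK]
      exact Subgroup.normalizer_eq_top_iff.2 hAn
    have hSN : S ≤ N := inf_le_right
    -- `[N : S] ≤ q - 1`
    have horb : S.relIndex N ≤ q - 1 := by
      have h1 : S.relIndex N = Nat.card (orbit N w) := by
        rw [Nat.card_coe_set_eq, ← MulAction.index_stabilizer]
        rw [Subgroup.relIndex]
        congr 1
        ext x
        rw [Subgroup.mem_subgroupOf, mem_stabilizer_iff, hS, Subgroup.mem_inf]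
        constructor
        · intro h; exact h.1
        · intro h; exact ⟨h, x.2⟩
      rw [h1]
      have h2 : ((fixS V K : Set V) \ {1}).ncard = (fixS V K : Set V).ncard - 1 :=
        Set.ncard_sdiff_singleton_of_mem (one_mem (fixS V K))
      have h3 : (fixS V K : Set V).ncard = q := rfl
      rw [h3] at h2
      rw [← h2, Nat.card_coe_set_eq]
      apply Set.ncard_le_ncard _ (Set.toFinite _)
      rintro _ ⟨x, rfl⟩
      refine ⟨?_, ?_⟩
      · show (x : H) • w ∈ fixS V K
        have hx : (x : H)⁻¹ ∈ N := inv_mem x.2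
        rw [hNmem] at hx
        have h4 := hwK
        rw [← hx] at h4
        have h5 := (mem_fixS_conj K (x : H)⁻¹ w).1 h4
        rwa [inv_inv] at h5
      · intro h4
        have h5 : (x : H) • w = 1 := h4
        rw [← smul_one (x : H)] at h5
        exact hw1 (MulAction.injective _ h5)
    have hSRN : S ≤ R ⊓ N := le_inf hSR hSN
    have h2S : 2 ≤ S.relIndex (R ⊓ N) := by
      have h0 : S.relIndex (R ⊓ N) ≠ 0 := Subgroup.index_ne_zero_of_finite
      have h1 : S.relIndex (R ⊓ N) ≠ 1 := by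
        intro h
        rw [Subgroup.relIndex_eq_one] at h
        exact hSA ((le_inf hAR hAN).trans h)
      omega
    have hmul : S.relIndex (R ⊓ N) * (R ⊓ N).relIndex N = S.relIndex N :=
      Subgroup.relIndex_mul_relIndex S (R ⊓ N) N hSRN inf_le_right
    have he1 : 2 * (R ⊓ N).relIndex N ≤ q - 1 := by
      calc 2 * (R ⊓ N).relIndex N ≤ S.relIndex (R ⊓ N) * (R ⊓ N).relIndex N :=
            Nat.mul_le_mul_right _ h2S
        _ = S.relIndex N := hmul
        _ ≤ q - 1 := horb
    have he : R.index ≤ (R ⊓ N).relIndex N * N.index := by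
      have h1 : (R ⊓ N).relIndex N * N.index = (R ⊓ N).index :=
        Subgroup.relIndex_mul_index inf_le_right
      rw [h1]
      exact Nat.le_of_dvd (Nat.pos_of_ne_zero Subgroup.index_ne_zero_of_finite)
        (Subgroup.index_dvd_of_le inf_le_left)
    have ht : 2 ≤ N.index := by
      have h0 : N.index ≠ 0 := Subgroup.index_ne_zero_of_finite
      have h1 : N.index ≠ 1 := fun h => hNt (Subgroup.index_eq_one.1 h)
      omega
    obtain ⟨t, ht'⟩ : ∃ t, N.index = t + 2 := ⟨N.index - 2, by omega⟩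
    have hq1 : 1 ≤ q := Nat.card_pos
    obtain ⟨u, hu⟩ : ∃ u, q = 1 + u := ⟨q - 1, by omega⟩
    have h2e : 2 * R.index ≤ (t + 2) * u := by
      have h1 : q - 1 = u := by omega
      rw [h1] at he1
      calc 2 * R.index ≤ 2 * ((R ⊓ N).relIndex N * N.index) := Nat.mul_le_mul_left _ he
        _ = (2 * (R ⊓ N).relIndex N) * N.index := by ring
        _ ≤ u * N.index := Nat.mul_le_mul_right _ he1
        _ = (t + 2) * u := by rw [ht']; ring
    have h4 : 4 * (R.index + 1) ^ 2 ≤ 4 * Nat.card V := by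
      calc 4 * (R.index + 1) ^ 2 = (2 * R.index + 2) ^ 2 := by ring
        _ ≤ ((t + 2) * u + 2) ^ 2 := Nat.pow_le_pow_left (by omega) 2
        _ ≤ 4 * (1 + u) ^ (t + 2) := numeric t u
        _ = 4 * q ^ N.index := by rw [ht', hu]
        _ ≤ 4 * Nat.card V := Nat.mul_le_mul_left _ hqt
    omega

end

end Cfsg.Agent.H394.AffAb
end

-- part: H895/AffSmall
section
/-!
# The case `l = 2`, `|A| = 2`
-/

set_option autoImplicit false

namespace Cfsg.Agent.H895

open MulAction

section

variable {V H : Type*} [CommGroup V] [Group H] [MulDistribMulAction H V]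
  {R Q A : Subgroup H} {z : H}

variable [Finite V] [Nontrivial V] [Finite H]

omit [Finite H] in
theorem Core.A_two (D : Core V 2 R Q A z) (hA2 : Nat.card A = 2) {a : H} (ha : a ∈ A) :
    a = 1 ∨ a = z := by
  apply D.ordA_two ha
  have h := pow_card_eq_one' (x := (⟨a, ha⟩ : A))
  rw [hA2, pow_two] at h
  exact congrArg Subtype.val h

omit [Finite H] in
theorem Core.A_cen (D : Core V 2 R Q A z) (hA2 : Nat.card A = 2) {a : H} (ha : a ∈ A) (h : H) :
    a * h = h * a := by
  rcases D.A_two hA2 ha with h' | h'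
  · rw [h', one_mul, mul_one]
  · rw [h', D.z_comm]

omit [Finite H] in
theorem Core.comm_or (D : Core V 2 R Q A z) (hA2 : Nat.card A = 2) {b q : H}
    (h : b * q * b⁻¹ * q⁻¹ ∈ A) : b * q = q * b ∨ b * q = z * (q * b) := by
  rcases D.A_two hA2 h with h' | h'
  · left
    rw [mul_inv_eq_one, mul_inv_eq_iff_eq_mul] at h'
    exact h'
  · right
    rw [mul_inv_eq_iff_eq_mul, mul_inv_eq_iff_eq_mul, mul_assoc] at h'
    exact h'

omit [Finite H] in
/-- If `b1 b2 = z b2 b1`, any `q` commuting up to `z` with `b1, b2` can be corrected. -/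
theorem Core.correct (D : Core V 2 R Q A z) {b1 b2 q : H} (h12 : b1 * b2 = z * (b2 * b1))
    (h1 : b1 * q = q * b1 ∨ b1 * q = z * (q * b1))
    (h2 : b2 * q = q * b2 ∨ b2 * q = z * (q * b2)) :
    ∃ b ∈ Subgroup.closure {b1, b2}, b1 * (q * b) = q * b * b1 ∧ b2 * (q * b) = q * b * b2 := by
  have hm1 : b1 ∈ Subgroup.closure {b1, b2} := Subgroup.subset_closure (by simp)
  have hm2 : b2 ∈ Subgroup.closure {b1, b2} := Subgroup.subset_closure (by simp)
  have zc := D.z_comm
  have zz := D.zz
  have h21 : b2 * b1 = z * (b1 * b2) := by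
    rw [h12, ← mul_assoc, zz, one_mul]
  rcases h1 with h1 | h1 <;> rcases h2 with h2 | h2
  · exact ⟨1, one_mem _, by rw [mul_one]; exact h1, by rw [mul_one]; exact h2⟩
  · -- `b2` anticommutes: correct by `b1`
    refine ⟨b1, hm1, ?_, ?_⟩
    · rw [← mul_assoc, h1]
    · calc b2 * (q * b1) = (b2 * q) * b1 := by rw [mul_assoc]
        _ = z * q * (b2 * b1) := by rw [h2]; simp only [mul_assoc]
        _ = z * (q * z) * (b1 * b2) := by rw [h21]; simp only [mul_assoc]
        _ = (z * z) * q * (b1 * b2) := by rw [zc]; simp only [mul_assoc]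
        _ = _ := by rw [zz, one_mul, mul_assoc]
  · refine ⟨b2, hm2, ?_, ?_⟩
    · calc b1 * (q * b2) = (b1 * q) * b2 := by rw [mul_assoc]
        _ = z * q * (b1 * b2) := by rw [h1]; simp only [mul_assoc]
        _ = z * (q * z) * (b2 * b1) := by rw [h12]; simp only [mul_assoc]
        _ = (z * z) * q * (b2 * b1) := by rw [zc]; simp only [mul_assoc]
        _ = _ := by rw [zz, one_mul, mul_assoc]
    · rw [← mul_assoc, h2]
  · refine ⟨b1 * b2, mul_mem hm1 hm2, ?_, ?_⟩
    · calc b1 * (q * (b1 * b2)) = (b1 * q) * (b1 * b2) := by simp only [mul_assoc]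
        _ = z * q * b1 * (b1 * b2) := by rw [h1]; simp only [mul_assoc]
        _ = z * (q * b1) * z * (b2 * b1) := by rw [h12]; simp only [mul_assoc]
        _ = z * ((q * b1) * z) * (b2 * b1) := by simp only [mul_assoc]
        _ = (z * z) * (q * b1) * (b2 * b1) := by rw [zc]; simp only [mul_assoc]
        _ = _ := by rw [zz, one_mul]; simp only [mul_assoc]
    · calc b2 * (q * (b1 * b2)) = (b2 * q) * (b1 * b2) := by simp only [mul_assoc]
        _ = z * q * (b2 * b1) * b2 := by rw [h2]; simp only [mul_assoc]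
        _ = z * (q * z) * (b1 * b2) * b2 := by rw [h21]; simp only [mul_assoc]
        _ = (z * z) * q * (b1 * b2) * b2 := by rw [zc]; simp only [mul_assoc]
        _ = _ := by rw [zz, one_mul]

theorem Core.exists_P2_small (D : Core V 2 R Q A z) (hA2 : Nat.card A = 2)
    (hr : ∃ r ∈ Q, r ∉ A ∧ r ^ 2 = 1) :
    ∃ B, P1 2 Q A B ∧ ∃ x ∈ B, x ∉ A ∧ x ^ 2 = 1 := by
  obtain ⟨r, hrQ, hrA, hr2⟩ := hr
  obtain ⟨B, hBn, hAB, hBQ, hBA, hBcomm, hBpow⟩ :=
    exists_omega D.hl A Q D.hAn D.hQn D.hAQ (fun h => hrA (h hrQ)) D.hQp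
  have hB : P1 2 Q A B := ⟨hBn, hBQ, hAB, hBA, fun b hb c hc => hBcomm b hb c (hBQ hc),
    fun a ha b _ => D.A_cen hA2 ha b, hBpow⟩
  by_cases hP2 : ∃ x ∈ B, x ∉ A ∧ x ^ 2 = 1
  · exact ⟨B, hB, hP2⟩
  push Not at hP2
  have hBsq : ∀ b ∈ B, b ∉ A → b ^ 2 = z := by
    intro b hb hbA
    exact (D.A_two hA2 (hBpow b hb)).resolve_left (hP2 b hb hbA)
  obtain ⟨b1, hb1, hb1A⟩ := SetLike.not_le_iff_exists.1 hBA
  obtain ⟨b2, hb2, hb21⟩ := D.exists_noncomm hB hb1 hb1A
  have h12 : b1 * b2 = z * (b2 * b1) :=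
    (D.comm_or hA2 (hB.hcomm b1 hb1 b2 hb2)).resolve_left (fun h => hb21 h.symm)
  have hclB : Subgroup.closure {b1, b2} ≤ B := by
    rw [Subgroup.closure_le]
    rintro y (rfl | hy)
    · exact hb1
    · rw [Set.mem_singleton_iff] at hy; rw [hy]; exact hb2
  -- elements of `B` commuting with `b1, b2` are in `A`
  have hcent : ∀ c ∈ B, b1 * c = c * b1 → b2 * c = c * b2 → c ∈ A := by
    intro c hc h1 h2
    by_contra hcA
    have h3 : (c * b1) ^ 2 = 1 := by
      have : Commute c b1 := h1.symm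
      rw [this.mul_pow, hBsq c hc hcA, hBsq b1 hb1 hb1A, D.zz]
    have h4 : c * b1 ∈ A := by
      by_contra h
      exact hP2 _ (mul_mem hc hb1) h h3
    apply hb21
    have h5 := D.A_cen hA2 h4 b2
    -- `c b1 b2 = b2 c b1 = c b2 b1`
    have h6 : c * (b1 * b2) = c * (b2 * b1) := by
      calc c * (b1 * b2) = (c * b1) * b2 := by rw [mul_assoc]
        _ = (b2 * c) * b1 := by rw [h5, mul_assoc]
        _ = _ := by rw [h2, mul_assoc]
    exact (mul_left_cancel h6).symm
  -- everything commuting with `b1, b2` centralises `B`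
  have hcentB : ∀ q : H, b1 * q = q * b1 → b2 * q = q * b2 → ∀ b ∈ B, b * q = q * b := by
    intro q h1 h2 b hb
    obtain ⟨d, hd, hd1, hd2⟩ := D.correct h12 (D.comm_or hA2 (hB.hcomm b1 hb1 b hb))
      (D.comm_or hA2 (hB.hcomm b2 hb2 b hb))
    have h3 : b * d ∈ A := hcent _ (mul_mem hb (hclB hd)) hd1 hd2
    have h4 : Commute d q := by
      have : Subgroup.closure {b1, b2} ≤ Subgroup.centralizer {q} := by
        rw [Subgroup.closure_le]
        rintro y (rfl | hy)
        · rw [SetLike.mem_coe, Subgroup.mem_centralizer_singleton_iff]; exact h1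
        · rw [Set.mem_singleton_iff] at hy
          rw [hy, SetLike.mem_coe, Subgroup.mem_centralizer_singleton_iff]; exact h2
      exact Subgroup.mem_centralizer_singleton_iff.1 (this hd)
    have h5 : Commute (b * d) q := D.A_cen hA2 h3 q
    have h6 := h5.mul_left h4.inv_left
    rw [mul_inv_cancel_right] at h6
    exact h6
  -- the centraliser of `B` in `Q`
  set C : Subgroup H := Q ⊓ Subgroup.centralizer (B : Set H) with hC
  have hCm : ∀ x, x ∈ C ↔ x ∈ Q ∧ ∀ b ∈ B, b * x = x * b := by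
    intro x
    rw [hC, Subgroup.mem_inf, Subgroup.mem_centralizer_iff]
    rfl
  have hCn : C.Normal := by
    have := D.hQn
    infer_instance
  have hAC : A ≤ C := fun a ha => (hCm a).2 ⟨D.hAQ ha, fun b _ => (D.A_cen hA2 ha b).symm⟩
  have hCA : ¬ C ≤ A := by
    obtain ⟨d, hd, hd1, hd2⟩ := D.correct h12
      (D.comm_or hA2 (hBcomm b1 hb1 r hrQ)) (D.comm_or hA2 (hBcomm b2 hb2 r hrQ))
    intro h
    have h1 : r * d ∈ A := h ((hCm _).2 ⟨mul_mem hrQ (hBQ (hclB hd)), hcentB _ hd1 hd2⟩)
    have h2 : r ∈ B := by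
      have := mul_mem (hAB h1) (inv_mem (hclB hd))
      simpa using this
    exact hP2 r h2 hrA hr2
  have hCQ : C ≤ Q := inf_le_left
  have hCp : IsPGroup 2 C := D.hQp.to_le hCQ
  obtain ⟨B', hBn', hAB', hBC', hBA', hBcomm', hBpow'⟩ :=
    exists_omega D.hl A C D.hAn hCn hAC hCA hCp
  have hB' : P1 2 Q A B' := ⟨hBn', hBC'.trans hCQ, hAB', hBA',
    fun b hb c hc => hBcomm' b hb c (hBC' hc),
    fun a ha b _ => D.A_cen hA2 ha b, hBpow'⟩
  by_cases hP2' : ∃ x ∈ B', x ∉ A ∧ x ^ 2 = 1
  · exact ⟨B', hB', hP2'⟩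
  push Not at hP2'
  have hBsq' : ∀ b ∈ B', b ∉ A → b ^ 2 = z := by
    intro b hb hbA
    exact (D.A_two hA2 (hBpow' b hb)).resolve_left (hP2' b hb hbA)
  have hcc : ∀ b ∈ B, ∀ b' ∈ B', Commute b b' := by
    intro b hb b' hb'
    exact ((hCm b').1 (hBC' hb')).2 b hb
  have hmem : ∀ x, x ∈ B ⊔ B' ↔ ∃ b ∈ B, ∃ b' ∈ B', b * b' = x := by
    intro x
    have := hBn'
    exact Subgroup.mem_sup_of_normal_right
  refine ⟨B ⊔ B', ⟨?_, ?_, ?_, ?_, ?_, ?_, ?_⟩, ?_⟩
  · have := hBn'; exact Subgroup.sup_normal B B'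
  · exact sup_le hBQ hB'.hBQ
  · exact hAB.trans le_sup_left
  · intro h; exact hBA (le_sup_left.trans h)
  · intro x hx y hy
    obtain ⟨b, hb, b', hb', rfl⟩ := (hmem x).1 hx
    obtain ⟨c, hc, c', hc', rfl⟩ := (hmem y).1 hy
    have e1 : b * b' * (c * c') = (b * c) * (b' * c') :=
      Commute.mul_mul_mul_comm (hcc c hc b' hb').symm _ _
    have e2 : c * c' * (b * b') = (c * b) * (c' * b') :=
      Commute.mul_mul_mul_comm (hcc b hb c' hc').symm _ _
    have e3 : b * b' * (c * c') * (b * b')⁻¹ * (c * c')⁻¹ =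
        (b * c * b⁻¹ * c⁻¹) * (b' * c' * b'⁻¹ * c'⁻¹) := by
      have e4 : Commute (c * b)⁻¹ (b' * c' * (c' * b')⁻¹) := by
        apply hcc _ (inv_mem (mul_mem hc hb))
        exact mul_mem (mul_mem hb' hc') (inv_mem (mul_mem hc' hb'))
      calc b * b' * (c * c') * (b * b')⁻¹ * (c * c')⁻¹
          = (b * b' * (c * c')) * (c * c' * (b * b'))⁻¹ := by group
        _ = (b * c) * (b' * c' * (c' * b')⁻¹) * (c * b)⁻¹ := by rw [e1, e2]; group
        _ = (b * c) * ((b' * c' * (c' * b')⁻¹) * (c * b)⁻¹) := by rw [mul_assoc]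
        _ = (b * c) * ((c * b)⁻¹ * (b' * c' * (c' * b')⁻¹)) := by rw [e4.eq]
        _ = _ := by group
    rw [e3]
    exact mul_mem (hB.hcomm b hb c hc) (hB'.hcomm b' hb' c' hc')
  · intro a ha b _; exact D.A_cen hA2 ha b
  · intro x hx
    obtain ⟨b, hb, b', hb', rfl⟩ := (hmem x).1 hx
    rw [(hcc b hb b' hb').mul_pow]
    exact mul_mem (hBpow b hb) (hBpow' b' hb')
  · obtain ⟨b', hb', hb'A⟩ := SetLike.not_le_iff_exists.1 hBA'
    refine ⟨b1 * b', (hmem _).2 ⟨b1, hb1, b', hb', rfl⟩, ?_, ?_⟩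
    · intro h
      apply hb21
      have h1 : Commute (b1 * b') b2 := D.A_cen hA2 h b2
      have h2 : Commute b'⁻¹ b2 := (hcc b2 hb2 b' hb').symm.inv_left
      have h3 := h1.mul_left h2
      rw [mul_inv_cancel_right] at h3
      exact h3.symm
    · rw [(hcc b1 hb1 b' hb').mul_pow, hBsq b1 hb1 hb1A, hBsq' b' hb' hb'A, D.zz]

omit [Nontrivial V] [Finite V] in
theorem eq_of_card_le_two {S : Subgroup H} (hS : Nat.card S ≤ 2) {x y : H} (hx : x ∈ S)
    (hx1 : x ≠ 1) (hy : y ∈ S) (hy1 : y ≠ 1) : x = y := by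
  classical
  have := Fintype.ofFinite S
  by_contra hne
  rw [Nat.card_eq_fintype_card] at hS
  have : 2 < Fintype.card S := by
    rw [Fintype.two_lt_card_iff]
    refine ⟨1, ⟨x, hx⟩, ⟨y, hy⟩, ?_, ?_, ?_⟩
    · intro h; exact hx1 (congrArg Subtype.val h).symm
    · intro h; exact hy1 (congrArg Subtype.val h).symm
    · intro h; exact hne (congrArg Subtype.val h)
  omega

/-- The count for `|A| = 2`. -/
theorem Core.fin_two_small (D : Core V 2 R Q A z) (hA2 : Nat.card A = 2) {B : Subgroup H}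
    (hB : P1 2 Q A B) (h2 : ∃ x ∈ B, x ∉ A ∧ x ^ 2 = 1) :
    (R.index + 1) ^ 2 ≤ Nat.card V := by
  -- the number of elements of `I` outside the centraliser of an element `y` of `I`
  have hout : ∀ y ∈ Iset V B, ∃ c : ℕ, c = {x | x ∈ B ∧ x * y = y * x}.ncard ∧
      2 * c ≤ Nat.card B ∧
      2 * (Iset V B).ncard ≤ Nat.card B - c + 2 * (Iset V B ∩ {x | x ∈ B ∧ x * y = y * x}).ncard ∧
      c ≤ Nat.card B := by
    intro y hy
    have hyp := D.Iset_props hB hy
    have hyy : y * y = 1 := by rw [← pow_two]; exact hyp.1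
    set C : Set H := {x | x ∈ B ∧ x * y = y * x} with hC
    set N : Set H := {x | x ∈ B ∧ x * y ≠ y * x} with hN
    have hNanti : ∀ x ∈ N, x * y = z * (y * x) := by
      intro x hx
      exact (D.comm_or hA2 (hB.hcomm x hx.1 y hy.1)).resolve_left hx.2
    have hCN : C.ncard + N.ncard = Nat.card B := by
      have h1 : Disjoint C N := by
        rw [Set.disjoint_left]
        intro x hx hx'
        exact hx'.2 hx.2
      rw [← Set.ncard_union_eq h1 (Set.toFinite _) (Set.toFinite _)]
      have h2 : C ∪ N = (B : Set H) := by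
        ext x
        simp only [hC, hN, Set.mem_union, Set.mem_ofPred_eq, SetLike.mem_coe]
        tauto
      rw [h2]
      exact (Nat.card_coe_set_eq _).symm
    -- a noncommuting element
    obtain ⟨b, hb, hby⟩ := D.exists_noncomm hB hy.1 hyp.2.1
    have hCN2 : C.ncard ≤ N.ncard := by
      apply Set.ncard_le_ncard_of_injOn (fun x => x * b)
      · intro x hx
        refine ⟨mul_mem hx.1 hb, ?_⟩
        intro h
        apply hby
        have h3 : x * (b * y) = x * (y * b) := by
          rw [← mul_assoc, h, ← mul_assoc, ← mul_assoc, hx.2]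
        exact mul_left_cancel h3
      · intro x _ x' _ h
        exact mul_right_cancel h
    -- half of `N`
    have hNI : 2 * (Iset V B ∩ N).ncard ≤ N.ncard := by
      have h1 : (Iset V B ∩ N).ncard ≤ (N \ Iset V B).ncard := by
        apply Set.ncard_le_ncard_of_injOn (fun x => x * y)
        · rintro x ⟨hxI, hxN⟩
          have hxx : x * x = 1 := by rw [← pow_two]; exact (D.Iset_props hB hxI).1
          refine ⟨⟨mul_mem hxN.1 hy.1, ?_⟩, ?_⟩
          · intro h
            apply hxN.2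
            rw [mul_assoc, hyy, mul_one] at h
            calc x * y = y * (x * y) * y := by rw [← h]
              _ = y * x * (y * y) := by simp only [mul_assoc]
              _ = y * x := by rw [hyy, mul_one]
          · intro h
            have h3 := (D.Iset_props hB h).1
            apply D.hz1
            rw [← h3, pow_two]
            calc z = z * (y * (x * x) * y) := by rw [hxx, mul_one, hyy, mul_one]
              _ = (z * (y * x)) * (x * y) := by simp only [mul_assoc]
              _ = (x * y) * (x * y) := by rw [← hNanti x hxN]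
        · intro x _ x' _ h
          exact mul_right_cancel h
      have h2 : (Iset V B ∩ N).ncard + (N \ Iset V B).ncard = N.ncard := by
        rw [Set.inter_comm]
        exact Set.ncard_inter_add_ncard_sdiff_eq_ncard N (Iset V B)
      omega
    have hIsum : (Iset V B).ncard ≤ (Iset V B ∩ N).ncard + (Iset V B ∩ C).ncard := by
      refine le_trans ?_ (Set.ncard_union_le _ _)
      apply Set.ncard_le_ncard _ (Set.toFinite _)
      intro x hx
      by_cases h : x * y = y * x
      · exact Or.inr ⟨hx, hx.1, h⟩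
      · exact Or.inl ⟨hx, hx.1, h⟩
    exact ⟨C.ncard, rfl, by omega, by omega, by omega⟩
  by_cases hbig : ∃ w : V, w ≠ 1 ∧ 2 < Nat.card (B ⊓ stabilizer H w : Subgroup H)
  · obtain ⟨w, hw, hbw⟩ := hbig
    have hBp : IsPGroup 2 (B ⊓ stabilizer H w : Subgroup H) :=
      D.hQp.to_le (inf_le_left.trans hB.hBQ)
    have h4 : 4 ≤ Nat.card (B ⊓ stabilizer H w : Subgroup H) := by
      have := Fact.mk D.hl
      obtain ⟨k, hk⟩ := IsPGroup.iff_card.1 hBp
      rw [hk] at hbw ⊢
      have hk2 : 2 ≤ k := by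
        by_contra h
        have : k ≤ 1 := by omega
        interval_cases k <;> omega
      calc 4 = 2 ^ 2 := by norm_num
        _ ≤ 2 ^ k := Nat.pow_le_pow_right (by norm_num) hk2
    obtain ⟨y, hy⟩ : ∃ y : (B ⊓ stabilizer H w : Subgroup H), y ≠ 1 := by
      have : (B ⊓ stabilizer H w : Subgroup H) ≠ ⊥ := by
        intro h; rw [h, Subgroup.card_bot] at hbw; omega
      exact Subgroup.ne_bot_iff_exists_ne_one.1 this
    have hyI : (y : H) ∈ Iset V B :=
      ⟨(Subgroup.mem_inf.1 y.2).1, fun h => hy (Subtype.ext h), w, hw, (Subgroup.mem_inf.1 y.2).2⟩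
    obtain ⟨c, hc, hc1, hc2, hc3⟩ := hout _ hyI
    have hIC : (Iset V B ∩ {x | x ∈ B ∧ x * y = y * x}).ncard ≤ c := by
      rw [hc]
      exact Set.ncard_le_ncard Set.inter_subset_right (Set.toFinite _)
    have h34 : 4 * (Iset V B).ncard ≤ 3 * Nat.card B := by omega
    refine bound_two R D.hR B hB.hBn (hB.hBQ.trans D.hQR) hw (by omega) ?_ ?_
    · obtain ⟨k, hk⟩ : ∃ k, Nat.card (B ⊓ stabilizer H w : Subgroup H) = k + 1 :=
        ⟨_, (Nat.succ_pred_eq_of_pos (by omega)).symm⟩
      rw [hk] at h4 ⊢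
      rw [Nat.add_sub_cancel]
      nlinarith
    · intro x hx
      exact (D.Iset_props hB hx).2.2
  · push Not at hbig
    apply D.fin_two hB h2
    obtain ⟨y, hy, w, hw, hyw⟩ := D.exists_Iset hB h2
    have hyp := D.Iset_props hB hy
    obtain ⟨c, hc, hc1, hc2, hc3⟩ := hout _ hy
    -- the centraliser has at least four elements
    have hc4 : 4 ≤ c := by
      rw [hc]
      have h5 : (({1, z, y, y * z} : Set H)).ncard = 4 := by
        have hz1 := D.hz1
        have hy1 := hy.2.1
        have hyz : y ≠ z := fun h => hyp.2.1 (h ▸ D.hzA)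
        have hyz1 : y * z ≠ 1 := by
          intro h
          apply hyp.2.1
          rw [eq_inv_of_mul_eq_one_left h]
          exact inv_mem D.hzA
        have hyyz : y ≠ y * z := fun h => hz1 (left_eq_mul.1 h)
        have hzyz : z ≠ y * z := fun h => hy1 (right_eq_mul.1 h)
        rw [Set.ncard_insert_of_notMem, Set.ncard_insert_of_notMem, Set.ncard_pair hyyz]
        · simp only [Set.mem_insert_iff, Set.mem_singleton_iff, not_or]
          exact ⟨hyz.symm, hzyz⟩
        · simp only [Set.mem_insert_iff, Set.mem_singleton_iff, not_or]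
          exact ⟨hz1.symm, hy1.symm, hyz1.symm⟩
      rw [← h5]
      apply Set.ncard_le_ncard _ (Set.toFinite _)
      rintro x (rfl | rfl | rfl | hx)
      · exact ⟨one_mem _, by rw [one_mul, mul_one]⟩
      · exact ⟨hB.hAB D.hzA, (D.z_comm y).symm⟩
      · exact ⟨hy.1, rfl⟩
      · rw [Set.mem_singleton_iff] at hx
        rw [hx]
        exact ⟨mul_mem hy.1 (hB.hAB D.hzA), by rw [mul_assoc, ← D.z_comm y, ← mul_assoc]⟩
    -- `I ∩ C ⊆ {y, y z}`
    have hIC : (Iset V B ∩ {x | x ∈ B ∧ x * y = y * x}).ncard ≤ 2 := by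
      have h5 : Iset V B ∩ {x | x ∈ B ∧ x * y = y * x} ⊆ {y, y * z} := by
        rintro x ⟨hxI, hxB, hxy⟩
        have hxx : x * x = 1 := by rw [← pow_two]; exact (D.Iset_props hB hxI).1
        by_contra hcon
        simp only [Set.mem_insert_iff, Set.mem_singleton_iff, not_or] at hcon
        have hyS : y ∈ (B ⊓ stabilizer H w : Subgroup H) := ⟨hy.1, hyw⟩
        -- `u = w (x w)` is fixed by `x` and `y`
        have hxu : x • (w * x • w) = w * x • w := by
          rw [smul_mul', smul_smul, hxx, one_smul, mul_comm]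
        have hyu : y • (w * x • w) = w * x • w := by
          rw [smul_mul', hyw, smul_smul, ← hxy, mul_smul, hyw]
        have hu1 : w * x • w = 1 := by
          by_contra hu
          have h6 := hbig _ hu
          exact hcon.1 (eq_of_card_le_two h6 ⟨hxB, hxu⟩ hxI.2.1 ⟨hy.1, hyu⟩ hy.2.1)
        have hxw : x • w = w⁻¹ := eq_inv_of_mul_eq_one_right hu1
        have hzw : z • w = w⁻¹ := by
          apply eq_inv_of_mul_eq_one_right
          apply D.zfix
          rw [smul_mul', smul_smul, D.zz, one_smul, mul_comm]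
        have hxzw : (x * z) • w = w := by
          rw [mul_smul, hzw, smul_inv', hxw, inv_inv]
        have hxz1 : x * z ≠ 1 := by
          intro h
          apply (D.Iset_props hB hxI).2.1
          rw [eq_inv_of_mul_eq_one_left h]
          exact inv_mem D.hzA
        have h6 := eq_of_card_le_two (hbig w hw) ⟨mul_mem hxB (hB.hAB D.hzA), hxzw⟩ hxz1 hyS
          hy.2.1
        apply hcon.2
        rw [← h6, mul_assoc, D.zz, mul_one]
      refine (Set.ncard_le_ncard h5 (Set.toFinite _)).trans ?_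
      refine (Set.ncard_insert_le _ _).trans ?_
      rw [Set.ncard_singleton]
    omega

end

end Cfsg.Agent.H895
end

-- part: H895/Affine
section
/-!
# The affine theorem

If `H` acts faithfully on a finite abelian `p`-group `V`, `R` is a normal subgroup of `H` containing
all elements with nontrivial fixed points, and there is a nonidentity one, then
`|H : R| ≤ √|V| - 1`.
-/

set_option autoImplicit false

namespace Cfsg.Agent.H895

open MulAction

/-- The core: a normal `l`-subgroup with an element with nontrivial fixed points. -/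
theorem affine_core {V H : Type*} [CommGroup V] [Finite V] [Group H] [Finite H]
    [MulDistribMulAction H V] [FaithfulSMul H V] (R : Subgroup H) (hRn : R.Normal)
    (hR : ∀ h : H, h ∉ R → ∀ v : V, h • v = v → v = 1) (Q : Subgroup H) (hQn : Q.Normal)
    (hQR : Q ≤ R) {l : ℕ} (hl : l.Prime) (hQp : IsPGroup l Q)
    (hcop : Nat.Coprime l (Nat.card V))
    (hne : ∃ r ∈ Q, r ≠ 1 ∧ ∃ v : V, v ≠ 1 ∧ r • v = v) :
    (R.index + 1) ^ 2 ≤ Nat.card V := by
  classical
  have hfl := Fact.mk hl
  by_cases hsemi : ∀ E : Subgroup H, E.Normal → E ≤ Q → (∀ x ∈ E, ∀ y ∈ E, x * y = y * x) →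
    ∀ a ∈ E, a ≠ 1 → ∀ v : V, a • v = v → v = 1
  swap
  · push Not at hsemi
    obtain ⟨E, hEn, hEQ, hEc, a, ha, ha1, v, hav, hv⟩ := hsemi
    refine Cfsg.Agent.H394.AffAb.ab_bound R hRn hR E hEn (hEQ.trans hQR) hEc ?_
      ⟨a, ha, ha1, v, hv, hav⟩
    obtain ⟨k, hk⟩ := IsPGroup.iff_card.1 (hQp.to_le hEQ)
    rw [hk]
    exact Nat.Coprime.pow_left k hcop
  obtain ⟨r, hrQ, hr1, v0, hv0, hrv0⟩ := hne
  have hrI : r ∈ Iset V Q := ⟨hrQ, hr1, v0, hv0, hrv0⟩
  have hVn : Nontrivial V := ⟨⟨v0, 1, hv0⟩⟩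
  -- a maximal abelian normal subgroup
  obtain ⟨A, ⟨hAn, hAQ, hAc⟩, hAmax⟩ := Set.exists_max_image
    {E : Subgroup H | E.Normal ∧ E ≤ Q ∧ ∀ x ∈ E, ∀ y ∈ E, x * y = y * x}
    (fun E => Nat.card E) (Set.toFinite _)
    ⟨⊥, inferInstance, bot_le, by
      intro x hx y hy
      rw [Subgroup.mem_bot] at hx hy
      rw [hx, hy]⟩
  have hAmax' : ∀ E : Subgroup H, E.Normal → E ≤ Q → (∀ x ∈ E, ∀ y ∈ E, x * y = y * x) →
      A ≤ E → E ≤ A := by
    intro E h1 h2 h3 h4
    have h5 := hAmax E ⟨h1, h2, h3⟩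
    exact (Subgroup.eq_of_le_of_card_ge h4 h5).ge
  -- a central element of order `l`
  have hQb : Q ≠ ⊥ := by
    intro h
    rw [h, Subgroup.mem_bot] at hrQ
    exact hr1 hrQ
  obtain ⟨z, hz⟩ := Subgroup.ne_bot_iff_exists_ne_one.1 (omC_ne_bot hl hQp hQb)
  have hz1 : (z : H) ≠ 1 := fun h => hz (Subtype.ext h)
  have hzm := mem_omC.1 z.2
  have hzA : (z : H) ∈ A := by
    have hOn := omC_normal hQn l
    have hle : A ⊔ omC Q l ≤ A := by
      apply hAmax' _ (Subgroup.sup_normal A (omC Q l))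
      · exact sup_le hAQ (fun x hx => (mem_omC.1 hx).1)
      · intro x hx y hy
        obtain ⟨a, ha, b, hb, rfl⟩ := Subgroup.mem_sup_of_normal_right.1 hx
        obtain ⟨c, hc, d, hd, rfl⟩ := Subgroup.mem_sup_of_normal_right.1 hy
        have e1 : Commute a (c * d) := by
          have h1 : Commute a c := hAc a ha c hc
          have h2 : Commute a d := ((mem_omC.1 hd).2.1 a (hAQ ha)).symm
          exact h1.mul_right h2
        have e2 : Commute b (c * d) :=
          (mem_omC.1 hb).2.1 _ (mul_mem (hAQ hc) (mem_omC.1 hd).1)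
        exact e1.mul_left e2
      · exact le_sup_left
    exact hle (Subgroup.mem_sup_right z.2)
  have D : Core V l R Q A (z : H) := ⟨hl, hcop, hR, hQn, hQR, hQp, hsemi, hAn, hAQ, hAc, hAmax',
    hzA, hzm.2.1, hzm.2.2, hz1⟩
  have hl23 : l = 2 ∨ 3 ≤ l := by
    have := hl.two_le
    omega
  by_cases hself : ∀ q ∈ Q, (∀ a ∈ A, a * q = q * a) → q ∈ A
  · rcases hl23 with rfl | hl3
    · exact D.self_two hself hrI
    · exact D.self_odd hl3 hself hrI
  push Not at hself
  obtain ⟨q, hqQ, hqc, hqA⟩ := hself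
  set C : Subgroup H := Q ⊓ Subgroup.centralizer (A : Set H) with hC
  have hCm : ∀ x, x ∈ C ↔ x ∈ Q ∧ ∀ b ∈ A, b * x = x * b := by
    intro x
    rw [hC, Subgroup.mem_inf, Subgroup.mem_centralizer_iff]
    rfl
  have hCn : C.Normal := by infer_instance
  obtain ⟨B, hBn, hAB, hBC, hBA, hBcomm, hBpow⟩ := exists_omega hl A C hAn hCn
    (fun a ha => (hCm a).2 ⟨hAQ ha, fun b hb => hAc b hb a ha⟩)
    (fun h => hqA (h ((hCm q).2 ⟨hqQ, hqc⟩))) (hQp.to_le inf_le_left)
  have hB : P1 l Q A B := ⟨hBn, hBC.trans inf_le_left, hAB, hBA,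
    fun b hb c hc => hBcomm b hb c (hBC hc),
    fun a ha b hb => ((hCm b).1 (hBC hb)).2 a ha, hBpow⟩
  rcases hl23 with rfl | hl3
  · by_cases hA4 : 4 ≤ Nat.card A
    · exact D.fin_two_big hA4 hB (D.exists_P2 (fun _ => hA4) hB)
    · have hA2 : Nat.card A = 2 := by
        obtain ⟨k, hk⟩ := IsPGroup.iff_card.1 (hQp.to_le hAQ)
        have h2 : 1 < Nat.card A := by
          have : Nontrivial A := ⟨⟨⟨z, hzA⟩, 1, fun h => hz1 (congrArg Subtype.val h)⟩⟩
          exact Finite.one_lt_card
        rw [hk] at hA4 h2 ⊢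
        have hk2 : k < 2 := by
          by_contra h
          apply hA4
          calc 4 = 2 ^ 2 := by norm_num
            _ ≤ 2 ^ k := Nat.pow_le_pow_right (by norm_num) (by omega)
        interval_cases k <;> omega
      obtain ⟨k, hk, hkl, hkA, _⟩ := D.pow_Iset hrI
      obtain ⟨B', hB', hP2⟩ := D.exists_P2_small hA2 ⟨r ^ k, hk.1, hkA, hkl⟩
      exact D.fin_two_small hA2 hB' hP2
  · exact D.fin_odd hl3 hB (D.exists_P2 (fun h => by omega) hB)

/-- A nontrivial normal `p`-subgroup of `H` acting on a `p`-group. -/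
theorem affine_pcase {V H : Type*} [CommGroup V] [Finite V] [Group H] [Finite H]
    [MulDistribMulAction H V] [FaithfulSMul H V] (R : Subgroup H) (hRn : R.Normal)
    (hR : ∀ h : H, h ∉ R → ∀ v : V, h • v = v → v = 1) (Q : Subgroup H) (hQn : Q.Normal)
    {p : ℕ} (hp : p.Prime) (hQp : IsPGroup p Q) (hV : p ∣ Nat.card V)
    (hQb : Q ≠ ⊥) : (R.index + 1) ^ 2 ≤ Nat.card V := by
  have := Fact.mk hp
  refine Cfsg.Agent.H394.AffAb.inv_bound R hRn hR (fixS V Q) ?_ ?_ ?_
  · intro h w hw x hx
    have h1 := hQn.conj_mem x hx h⁻¹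
    rw [inv_inv] at h1
    have h2 := hw _ h1
    rw [mul_smul, mul_smul] at h2
    rw [inv_smul_eq_iff] at h2
    exact h2
  · intro h
    have h1 := hQp.card_modEq_card_fixedPoints V
    have h2 : Nat.card (fixedPoints Q V) = 1 := by
      rw [Nat.card_eq_one_iff_unique]
      refine ⟨⟨?_⟩, ⟨⟨1, fun q => smul_one q⟩⟩⟩
      rintro ⟨a, ha⟩ ⟨b, hb⟩
      have key : ∀ a : V, a ∈ fixedPoints Q V → a = 1 := by
        intro a ha
        have : a ∈ fixS V Q := by
          intro x hx
          exact ha ⟨x, hx⟩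
        rw [h, Subgroup.mem_bot] at this
        exact this
      apply Subtype.ext
      change a = b
      rw [key a ha, key b hb]
    rw [h2] at h1
    have h3 := (Nat.modEq_zero_iff_dvd.2 hV).symm.trans h1
    have h4 := Nat.modEq_zero_iff_dvd.1 h3.symm
    exact hp.one_lt.ne' (Nat.dvd_one.1 h4)
  · intro h
    apply hQb
    rw [Subgroup.eq_bot_iff_forall]
    intro x hx
    apply FaithfulSMul.eq_of_smul_eq_smul (α := V)
    intro v
    have hv : v ∈ fixS V Q := by rw [h]; exact Subgroup.mem_top v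
    rw [hv x hx, one_smul]

theorem affine_bound_aux (n : ℕ) : ∀ {V : Type*} {H : Type*} [CommGroup V] [Finite V] [Group H]
    [Finite H] [MulDistribMulAction H V] [FaithfulSMul H V] {p : ℕ} (_ : p.Prime)
    (_ : ∃ k, Nat.card V = p ^ k) (R : Subgroup H) (_ : R.Normal)
    (_ : ∀ h : H, h ∉ R → ∀ v : V, h • v = v → v = 1)
    (_ : ∃ r : H, r ≠ 1 ∧ ∃ v : V, v ≠ 1 ∧ r • v = v) (_ : Nat.card H = n),
    (R.index + 1) ^ 2 ≤ Nat.card V := by
  induction n using Nat.strong_induction_on with
  | _ n ih =>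
  intro V H _ _ _ _ _ _ p hp hV R hRn hR hne hn
  classical
  obtain ⟨r, hr1, v, hv, hrv⟩ := hne
  have hVn : Nontrivial V := ⟨⟨v, 1, hv⟩⟩
  -- make the order of `r` prime
  obtain ⟨l, hl, hlr⟩ : ∃ l : ℕ, l.Prime ∧ l ∣ orderOf r := by
    apply Nat.exists_prime_and_dvd
    rw [Ne, orderOf_eq_one_iff]
    exact hr1
  have hfl := Fact.mk hl
  obtain ⟨m, hm⟩ := hlr
  have hspow : orderOf (r ^ m) = l := by
    have h0 : 0 < orderOf r := orderOf_pos r
    have hm0 : m ≠ 0 := by rintro rfl; omega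
    rw [orderOf_pow_of_dvd hm0 ⟨l, by rw [hm, mul_comm]⟩, hm, Nat.mul_div_cancel _ (by omega)]
  set s := r ^ m with hs
  have hs1 : s ≠ 1 := by
    intro h
    rw [h, orderOf_one] at hspow
    exact hl.one_lt.ne hspow
  have hsv : s • v = v := by
    have : r ^ m ∈ stabilizer H v := pow_mem (show r ∈ stabilizer H v from hrv) m
    exact this
  have hsR : s ∈ R := by
    by_contra h
    exact hv (hR s h v hsv)
  -- a Sylow subgroup of `R` containing `s`
  have hzp : IsPGroup l (Subgroup.zpowers (⟨s, hsR⟩ : R)) := by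
    rw [IsPGroup.iff_card]
    refine ⟨1, ?_⟩
    rw [Nat.card_zpowers, pow_one, Subgroup.orderOf_mk, hspow]
  obtain ⟨P, hP⟩ := hzp.exists_le_sylow
  set Q : Subgroup H := (P : Subgroup R).map R.subtype with hQ
  have hsQ : s ∈ Q := ⟨⟨s, hsR⟩, hP (Subgroup.mem_zpowers _), rfl⟩
  have hQR : Q ≤ R := by
    rintro x ⟨y, _, rfl⟩
    exact y.2
  have hQp : IsPGroup l Q := P.isPGroup'.map R.subtype
  have hfr : Subgroup.normalizer (Q : Set H) ⊔ R = ⊤ := Sylow.normalizer_sup_eq_top P
  set M : Subgroup H := Subgroup.normalizer (Q : Set H) with hM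
  by_cases hMtop : M = ⊤
  · have hQn : Q.Normal := Subgroup.normalizer_eq_top_iff.1 hMtop
    by_cases hlp : l = p
    · subst hlp
      refine affine_pcase R hRn hR Q hQn hl hQp ?_ ?_
      · obtain ⟨k, hk⟩ := hV
        have h1 : 1 < Nat.card V := Finite.one_lt_card
        rw [hk] at h1 ⊢
        rcases Nat.eq_zero_or_pos k with rfl | hk0
        · simp at h1
        · exact dvd_pow_self l (by omega)
      · intro h
        rw [h, Subgroup.mem_bot] at hsQ
        exact hs1 hsQ
    · refine affine_core R hRn hR Q hQn hQR hl hQp ?_ ⟨s, hsQ, hs1, v, hv, hsv⟩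
      obtain ⟨k, hk⟩ := hV
      rw [hk]
      exact Nat.Coprime.pow_right k ((Nat.coprime_primes hl hp).2 hlp)
  · have hlt : Nat.card M < n := by
      rw [← hn]
      rcases (Subgroup.card_le_card_group M).lt_or_eq with h | h
      · exact h
      · exact absurd (Subgroup.eq_top_of_card_eq M h) hMtop
    have hsM : s ∈ M := Subgroup.le_normalizer hsQ
    have key := ih _ hlt (V := V) (H := M) hp hV (R.subgroupOf M) inferInstance ?_
      ⟨⟨s, hsM⟩, fun h => hs1 (congrArg Subtype.val h), v, hv, hsv⟩ rfl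
    · have h1 : (R.subgroupOf M).index = R.index := by
        change R.relIndex M = R.index
        rw [← Subgroup.relIndex_sup_right, hfr, Subgroup.relIndex_top_right]
      rw [h1] at key
      exact key
    · intro h hh w hw
      exact hR h (fun h' => hh (Subgroup.mem_subgroupOf.2 h')) w hw

/-- **The affine theorem.** -/
theorem affine_bound {V H : Type*} [CommGroup V] [Finite V] [Group H] [Finite H]
    [MulDistribMulAction H V] [FaithfulSMul H V] {p : ℕ} (hp : p.Prime)
    (hV : ∃ k, Nat.card V = p ^ k) (R : Subgroup H) (hRn : R.Normal)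
    (hR : ∀ h : H, h ∉ R → ∀ v : V, h • v = v → v = 1)
    (hne : ∃ r : H, r ≠ 1 ∧ ∃ v : V, v ≠ 1 ∧ r • v = v) :
    (R.index + 1) ^ 2 ≤ Nat.card V :=
  affine_bound_aux (Nat.card H) hp hV R hRn hR hne rfl

end Cfsg.Agent.H895
end
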