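import Mathlib
import Cfsg.Agent.H895.Count
set_option linter.all false

-- part: H895/TwoTrans
section
/-!
# 2-transitive groups: two-point stabilisers and lines
-/

set_option autoImplicit false

namespace Cfsg.Agent.H895

open MulAction Finset

section

variable {G Ω : Type*} [Group G] [Fintype G] [MulAction G Ω] [Fintype Ω]

/-- 2-transitivity in elementary terms. -/
def TwoT (G Ω : Type*) [Group G] [MulAction G Ω] : Prop :=
  ∀ x y x' y' : Ω, x ≠ y → x' ≠ y' → ∃ g : G, g • x = x' ∧ g • y = y'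

open Classical in
/-- The two-point stabiliser as a finset. -/
noncomputable def pst (G : Type*) {Ω : Type*} [Group G] [Fintype G] [MulAction G Ω] (x y : Ω) :
    Finset G :=
  univ.filter (fun g => g • x = x ∧ g • y = y)

omit [Fintype Ω] in
theorem mem_pst {x y : Ω} {g : G} : g ∈ pst G x y ↔ g • x = x ∧ g • y = y := by
  simp [pst]

omit [Fintype Ω] in
theorem pst_sum_eq {M : Type*} [AddCommMonoid M] (w : G → M) (hw : ∀ g k : G, w (k * g * k⁻¹) = w g)
    {a b x y : Ω} (k : G) (hx : k • a = x) (hy : k • b = y) :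
    ∑ g ∈ pst G x y, w g = ∑ g ∈ pst G a b, w g := by
  refine (Finset.sum_bij' (fun g _ => k * g * k⁻¹) (fun g _ => k⁻¹ * g * k) ?_ ?_ ?_ ?_ ?_).symm
  · intro g hg
    rw [mem_pst] at hg ⊢
    rw [← hx, ← hy]
    constructor
    · rw [smul_smul, mul_assoc, inv_mul_cancel, mul_one, mul_smul, hg.1]
    · rw [smul_smul, mul_assoc, inv_mul_cancel, mul_one, mul_smul, hg.2]
  · intro g hg
    rw [mem_pst] at hg ⊢
    constructor
    · rw [mul_smul, mul_smul, hx, hg.1, ← hx, inv_smul_smul]
    · rw [mul_smul, mul_smul, hy, hg.2, ← hy, inv_smul_smul]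
  · intro g _; group
  · intro g _; group
  · intro g _; rw [hw]

/-- Double counting over ordered pairs of distinct fixed points. -/
theorem double_count (h2 : TwoT G Ω) (w : G → ℚ) (hw : ∀ g k : G, w (k * g * k⁻¹) = w g)
    {a b : Ω} (hab : a ≠ b) :
    ∑ g : G, (((fixF Ω g).card : ℚ) ^ 2 - (fixF Ω g).card) * w g =
      ((Fintype.card Ω : ℚ) ^ 2 - Fintype.card Ω) * ∑ g ∈ pst G a b, w g := by
  classical
  have h1 : ∑ p ∈ (univ : Finset Ω).offDiag, ∑ g ∈ pst G p.1 p.2, w g =
      ∑ g : G, ∑ _p ∈ (fixF Ω g).offDiag, w g := by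
    refine Finset.sum_comm' ?_
    intro p g
    rw [mem_pst, Finset.mem_offDiag, Finset.mem_offDiag, mem_fixF, mem_fixF]
    simp only [mem_univ, true_and, and_true]
    tauto
  have h3 : ∑ p ∈ (univ : Finset Ω).offDiag, ∑ g ∈ pst G p.1 p.2, w g =
      ∑ p ∈ (univ : Finset Ω).offDiag, ∑ g ∈ pst G a b, w g := by
    refine Finset.sum_congr rfl ?_
    intro p hp
    rw [Finset.mem_offDiag] at hp
    obtain ⟨k, hk1, hk2⟩ := h2 a b p.1 p.2 hab hp.2.2
    exact pst_sum_eq w hw k hk1 hk2
  have hcard : ∀ s : Finset Ω, ((s.offDiag.card : ℕ) : ℚ) = (s.card : ℚ) ^ 2 - s.card := by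
    intro s
    rw [Finset.offDiag_card, Nat.cast_sub (Nat.le_mul_self _)]
    push_cast; ring
  rw [h3, Finset.sum_const, nsmul_eq_mul, hcard, Finset.card_univ] at h1
  rw [h1]
  refine Finset.sum_congr rfl ?_
  intro g _
  rw [Finset.sum_const, nsmul_eq_mul, hcard]

omit [Fintype Ω] in
theorem pst_card_eq (h2 : TwoT G Ω) {a b x y : Ω} (hab : a ≠ b) (hxy : x ≠ y) :
    (pst G x y).card = (pst G a b).card := by
  obtain ⟨k, hk1, hk2⟩ := h2 a b x y hab hxy
  have := pst_sum_eq (G := G) (M := ℕ) (fun _ => 1) (fun _ _ => rfl) k hk1 hk2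
  simpa using this

open Classical in
/-- The line through two points: the fixed points of the two-point stabiliser. -/
noncomputable def line (G : Type*) {Ω : Type*} [Group G] [MulAction G Ω] [Fintype Ω] (x y : Ω) :
    Finset Ω :=
  univ.filter (fun z => ∀ g : G, g • x = x → g • y = y → g • z = z)

omit [Fintype G] in
theorem mem_line {x y z : Ω} : z ∈ line G x y ↔ ∀ g : G, g • x = x → g • y = y → g • z = z := by
  simp [line]

omit [Fintype G] in
theorem left_mem_line (x y : Ω) : x ∈ line G x y := mem_line.2 fun _ h _ => h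

omit [Fintype G] in
theorem right_mem_line (x y : Ω) : y ∈ line G x y := mem_line.2 fun _ _ h => h

theorem pst_eq (h2 : TwoT G Ω) {x y u v : Ω} (hxy : x ≠ y) (huv : u ≠ v) (hu : u ∈ line G x y)
    (hv : v ∈ line G x y) : pst G x y = pst G u v := by
  refine Finset.eq_of_subset_of_card_le ?_ (pst_card_eq h2 hxy huv).le
  intro g hg
  rw [mem_pst] at hg ⊢
  exact ⟨mem_line.1 hu g hg.1 hg.2, mem_line.1 hv g hg.1 hg.2⟩

theorem mem_line_iff_pst {x y z : Ω} : z ∈ line G x y ↔ ∀ g ∈ pst G x y, g • z = z := by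
  rw [mem_line]
  constructor
  · intro h g hg
    rw [mem_pst] at hg
    exact h g hg.1 hg.2
  · intro h g h1 h2
    exact h g (mem_pst.2 ⟨h1, h2⟩)

theorem line_eq (h2 : TwoT G Ω) {x y u v : Ω} (hxy : x ≠ y) (huv : u ≠ v) (hu : u ∈ line G x y)
    (hv : v ∈ line G x y) : line G u v = line G x y := by
  ext z
  rw [mem_line_iff_pst, mem_line_iff_pst, pst_eq h2 hxy huv hu hv]

omit [Fintype G] in
theorem line_card_eq (h2 : TwoT G Ω) {a b x y : Ω} (hab : a ≠ b) (hxy : x ≠ y) :
    (line G x y).card = (line G a b).card := by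
  classical
  obtain ⟨k, hk1, hk2⟩ := h2 a b x y hab hxy
  refine (Finset.card_bij' (fun ω _ => k • ω) (fun ω _ => k⁻¹ • ω) ?_ ?_ ?_ ?_).symm
  · intro z hz
    rw [mem_line] at hz ⊢
    intro g hg1 hg2
    have := hz (k⁻¹ * g * k) (by rw [mul_smul, mul_smul, hk1, hg1, ← hk1, inv_smul_smul])
      (by rw [mul_smul, mul_smul, hk2, hg2, ← hk2, inv_smul_smul])
    rw [mul_smul, mul_smul, inv_smul_eq_iff] at this
    exact this
  · intro z hz
    rw [mem_line] at hz ⊢
    intro g hg1 hg2
    have := hz (k * g * k⁻¹) (by rw [← hk1, smul_smul, mul_assoc, inv_mul_cancel, mul_one, mul_smul, hg1])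
      (by rw [← hk2, smul_smul, mul_assoc, inv_mul_cancel, mul_one, mul_smul, hg2])
    rw [mul_smul, mul_smul] at this
    rw [eq_inv_smul_iff]
    exact this
  · intro z _; simp
  · intro z _; simp

omit [Fintype G] in
theorem line_subset_fixF {g : G} {x y : Ω} (hx : g • x = x) (hy : g • y = y) :
    line G x y ⊆ fixF Ω g := by
  intro z hz
  rw [mem_fixF]
  exact mem_line.1 hz g hx hy

omit [Fintype G] [Fintype Ω] in
theorem exists_moved [FaithfulSMul G Ω] {g : G} (hg : g ≠ 1) : ∃ z : Ω, g • z ≠ z := by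
  by_contra h
  push Not at h
  exact hg (FaithfulSMul.eq_of_smul_eq_smul (α := Ω) (fun z => by rw [h z, one_smul]))

/-- The subspace bound. -/
theorem fix_bound (h2 : TwoT G Ω) [FaithfulSMul G Ω] {a b : Ω} (hab : a ≠ b) {g : G} (hg : g ≠ 1) :
    (fixF Ω g).card * ((line G a b).card - 1) ≤ Fintype.card Ω - 1 := by
  classical
  obtain ⟨z, hz⟩ := exists_moved (Ω := Ω) hg
  have hzF : ∀ x ∈ fixF Ω g, z ≠ x := by
    intro x hx h
    rw [mem_fixF] at hx
    rw [h] at hz
    exact hz hx
  have hdis : ∀ x ∈ fixF Ω g, ∀ y ∈ fixF Ω g, x ≠ y →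
      Disjoint ((line G z x).erase z) ((line G z y).erase z) := by
    intro x hx y hy hxy
    rw [Finset.disjoint_left]
    intro u hu hu'
    rw [Finset.mem_erase] at hu hu'
    have e1 := line_eq h2 (hzF x hx) hu.1 hu.2 (left_mem_line z x)
    have e2 := line_eq h2 (hzF y hy) hu.1 hu'.2 (left_mem_line z y)
    have hx' : x ∈ line G u z := by rw [e1]; exact right_mem_line z x
    have hy' : y ∈ line G u z := by rw [e2]; exact right_mem_line z y
    have e3 := line_eq h2 hu.1 hxy hx' hy'
    have hz' : z ∈ line G x y := by rw [e3]; exact right_mem_line u z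
    exact hz (mem_fixF.1 (line_subset_fixF (mem_fixF.1 hx) (mem_fixF.1 hy) hz'))
  have h1 := Finset.card_biUnion hdis
  have h3 : ∑ x ∈ fixF Ω g, ((line G z x).erase z).card =
      (fixF Ω g).card * ((line G a b).card - 1) := by
    rw [Finset.sum_congr rfl (g := fun _ => (line G a b).card - 1), Finset.sum_const, smul_eq_mul]
    intro x hx
    rw [Finset.card_erase_of_mem (left_mem_line z x), line_card_eq h2 hab (hzF x hx)]
  rw [h3] at h1
  rw [← h1]
  have h4 : (Finset.univ.erase z).card = Fintype.card Ω - 1 := by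
    rw [Finset.card_erase_of_mem (mem_univ z), Finset.card_univ]
  rw [← h4]
  refine Finset.card_le_card ?_
  intro u hu
  rw [Finset.mem_biUnion] at hu
  obtain ⟨x, _, hu⟩ := hu
  rw [Finset.mem_erase] at hu ⊢
  exact ⟨hu.1, mem_univ u⟩

/-- The lines through a point partition the rest. -/
theorem dvd_card_sub_one (h2 : TwoT G Ω) {a b : Ω} (hab : a ≠ b) :
    ((line G a b).card - 1) ∣ Fintype.card Ω - 1 := by
  classical
  have h4 : (Finset.univ.erase a).card = Fintype.card Ω - 1 := by
    rw [Finset.card_erase_of_mem (mem_univ a), Finset.card_univ]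
  have h1 := Finset.card_eq_sum_card_image (fun x => line G a x) (Finset.univ.erase a)
  rw [h4] at h1
  rw [h1]
  refine Finset.dvd_sum ?_
  intro l hl
  rw [Finset.mem_image] at hl
  obtain ⟨x, hx, rfl⟩ := hl
  rw [Finset.mem_erase] at hx
  have e : (Finset.univ.erase a).filter (fun y => line G a y = line G a x) = (line G a x).erase a := by
    ext y
    rw [Finset.mem_filter, Finset.mem_erase, Finset.mem_erase]
    constructor
    · rintro ⟨⟨hy, _⟩, h⟩
      exact ⟨hy, by rw [← h]; exact right_mem_line a y⟩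
    · rintro ⟨hy, h⟩
      exact ⟨⟨hy, mem_univ y⟩, line_eq h2 hx.1.symm hy.symm (left_mem_line a x) h⟩
  rw [e, Finset.card_erase_of_mem (left_mem_line a x), line_card_eq h2 hab hx.1.symm]

end

end Cfsg.Agent.H895
end

-- part: H895/TwoStab
section
/-!
# The two-point stabiliser acting on the points
-/

set_option autoImplicit false

namespace Cfsg.Agent.H895

open MulAction Finset

section

variable {G Ω : Type*} [Group G] [Fintype G] [MulAction G Ω] [Fintype Ω]

/-- The two-point stabiliser as a subgroup. -/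
def pstS (G : Type*) {Ω : Type*} [Group G] [MulAction G Ω] (x y : Ω) : Subgroup G :=
  stabilizer G x ⊓ stabilizer G y

omit [Fintype G] [Fintype Ω] in
theorem mem_pstS {x y : Ω} {g : G} : g ∈ pstS G x y ↔ g • x = x ∧ g • y = y := Iff.rfl

omit [Fintype Ω] in
theorem natCard_pstS (x y : Ω) : Nat.card (pstS G x y) = (pst G x y).card := by
  refine Nat.subtype_card _ ?_
  intro g
  rw [mem_pst, mem_pstS]

theorem burnside_pst (a b : Ω) :
    ∃ c : ℕ, ∑ g ∈ pst G a b, (fixF Ω g).card = c * (pst G a b).card := by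
  classical
  have h := H393.burnside_subgroup G Ω (pstS G a b)
  rw [natCard_pstS] at h
  refine ⟨Nat.card (orbitRel.Quotient (pstS G a b) Ω), ?_⟩
  rw [← h]
  refine Finset.sum_congr ?_ (fun g _ => (natCard_fixedBy g).symm)
  ext g
  rw [mem_pst, Finset.mem_filter, mem_pstS]
  simp

open Classical in
/-- Number of elements of the two-point stabiliser fixing `ω`. -/
noncomputable def mst (G : Type*) {Ω : Type*} [Group G] [Fintype G] [MulAction G Ω] (a b ω : Ω) : ℕ :=
  ((pst G a b).filter (fun g => g • ω = ω)).card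

theorem sum_fix_eq_sum_mst (a b : Ω) :
    ∑ g ∈ pst G a b, (fixF Ω g).card = ∑ ω : Ω, mst G a b ω := by
  classical
  have h := Finset.sum_card_bipartiteAbove_eq_sum_card_bipartiteBelow (s := pst G a b)
    (t := (univ : Finset Ω)) (fun g ω => g • ω = ω)
  simp only [Finset.bipartiteAbove, Finset.bipartiteBelow] at h
  rw [show (∑ ω : Ω, mst G a b ω) = ∑ ω : Ω, ((pst G a b).filter (fun g => g • ω = ω)).card from
    Finset.sum_congr rfl (fun ω _ => by rw [mst]), ← h]
  refine Finset.sum_congr rfl (fun g _ => ?_)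
  rw [fixF]

/-- The stabiliser of `ω` in the two-point stabiliser. -/
abbrev subS (G : Type*) {Ω : Type*} [Group G] [MulAction G Ω] (a b ω : Ω) : Subgroup (pstS G a b) :=
  (stabilizer G ω).subgroupOf (pstS G a b)

omit [Fintype Ω] in
theorem natCard_subS (a b ω : Ω) : Nat.card (subS G a b ω) = mst G a b ω := by
  classical
  have h : Nat.card (subS G a b ω) = Nat.card {g : G // g ∈ pst G a b ∧ g • ω = ω} := by
    refine Nat.card_congr ⟨fun x => ⟨x.1.1, mem_pst.2 x.1.2, x.2⟩,
      fun x => ⟨⟨x.1, mem_pst.1 x.2.1⟩, x.2.2⟩, fun x => rfl, fun x => rfl⟩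
  rw [h, mst]
  refine Nat.subtype_card _ ?_
  intro g
  rw [Finset.mem_filter]

omit [Fintype Ω] in
theorem mst_mul_index (a b ω : Ω) : mst G a b ω * (subS G a b ω).index = (pst G a b).card := by
  rw [← natCard_subS, Subgroup.card_mul_index, natCard_pstS]

theorem mst_of_mem {a b ω : Ω} (h : ω ∈ line G a b) : mst G a b ω = (pst G a b).card := by
  classical
  rw [mst]
  congr 1
  refine Finset.filter_true_of_mem ?_
  intro g hg
  exact mem_line_iff_pst.1 h g hg

omit [Fintype Ω] in
theorem pst_card_pos (a b : Ω) : 0 < (pst G a b).card :=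
  Finset.card_pos.2 ⟨1, mem_pst.2 ⟨one_smul _ _, one_smul _ _⟩⟩

theorem two_le_index {a b ω : Ω} (h : ω ∉ line G a b) : 2 ≤ (subS G a b ω).index := by
  have h0 : (subS G a b ω).index ≠ 0 := Subgroup.FiniteIndex.index_ne_zero
  have h1 : (subS G a b ω).index ≠ 1 := by
    intro h1
    rw [Subgroup.index_eq_one] at h1
    apply h
    rw [mem_line]
    intro g hg1 hg2
    have : (⟨g, hg1, hg2⟩ : pstS G a b) ∈ subS G a b ω := by rw [h1]; trivial
    exact this
  omega

theorem two_mst_le {a b ω : Ω} (h : ω ∉ line G a b) : 2 * mst G a b ω ≤ (pst G a b).card := by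
  have h1 := two_le_index (G := G) h
  have h2 := mst_mul_index (G := G) a b ω
  nlinarith

omit [Fintype Ω] in
theorem index_eq_two {a b ω : Ω} (h : 2 * mst G a b ω = (pst G a b).card) :
    (subS G a b ω).index = 2 := by
  have h2 := mst_mul_index (G := G) a b ω
  have h3 := pst_card_pos (G := G) a b
  have h4 : mst G a b ω * (subS G a b ω).index = mst G a b ω * 2 := by omega
  exact Nat.eq_of_mul_eq_mul_left (by omega) h4

theorem iff_of_index_two {a b ω : Ω} (h : 2 * mst G a b ω = (pst G a b).card) {g k : G}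
    (hg : g ∈ pst G a b) (hk : k ∈ pst G a b) :
    (g * k) • ω = ω ↔ (g • ω = ω ↔ k • ω = ω) :=
  Subgroup.mul_mem_iff_of_index_two (index_eq_two h) (a := ⟨g, mem_pst.1 hg⟩) (b := ⟨k, mem_pst.1 hk⟩)

open Classical in
/-- `2 S = 2 f₀ J + ∑_{ω off the line} 2 m_ω`. -/
theorem two_mul_sum (a b : Ω) : 2 * ∑ g ∈ pst G a b, (fixF Ω g).card =
    2 * (line G a b).card * (pst G a b).card + ∑ ω ∈ (line G a b)ᶜ, 2 * mst G a b ω := by
  rw [sum_fix_eq_sum_mst, ← Finset.sum_add_sum_compl (line G a b), mul_add, Finset.mul_sum,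
    Finset.mul_sum]
  congr 1
  · rw [Finset.sum_congr rfl (g := fun _ => 2 * (pst G a b).card), Finset.sum_const, smul_eq_mul]
    · ring
    · intro ω hω; rw [mst_of_mem hω]
  
open Classical in
theorem two_mul_sum_le (a b : Ω) : 2 * ∑ g ∈ pst G a b, (fixF Ω g).card ≤
    (Fintype.card Ω + (line G a b).card) * (pst G a b).card := by
  rw [two_mul_sum]
  have h1 : ∑ ω ∈ (line G a b)ᶜ, 2 * mst G a b ω ≤ ∑ ω ∈ (line G a b)ᶜ, (pst G a b).card :=
    Finset.sum_le_sum fun ω hω => two_mst_le (Finset.mem_compl.1 hω)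
  rw [Finset.sum_const, smul_eq_mul, Finset.card_compl] at h1
  have h2 : (line G a b).card ≤ Fintype.card Ω := Finset.card_le_univ _
  obtain ⟨m, hm⟩ := Nat.exists_eq_add_of_le h2
  rw [hm] at h1 ⊢
  rw [Nat.add_sub_cancel_left] at h1
  nlinarith

open Classical in
theorem two_mst_eq {a b : Ω} (h : 2 * ∑ g ∈ pst G a b, (fixF Ω g).card =
    (Fintype.card Ω + (line G a b).card) * (pst G a b).card) {ω : Ω} (hω : ω ∉ line G a b) :
    2 * mst G a b ω = (pst G a b).card := by
  rw [two_mul_sum] at h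
  have h2 : (line G a b).card ≤ Fintype.card Ω := Finset.card_le_univ _
  have h3 : ∑ ω ∈ (line G a b)ᶜ, 2 * mst G a b ω = ∑ ω ∈ (line G a b)ᶜ, (pst G a b).card := by
    rw [Finset.sum_const, smul_eq_mul, Finset.card_compl]
    obtain ⟨m, hm⟩ := Nat.exists_eq_add_of_le h2
    rw [hm] at h ⊢
    rw [Nat.add_sub_cancel_left]
    nlinarith
  exact (Finset.sum_eq_sum_iff_of_le fun ω hω => two_mst_le (Finset.mem_compl.1 hω)).1 h3 ω
    (Finset.mem_compl.2 hω)

end

end Cfsg.Agent.H895
end

-- part: H895/TwoMain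
section
/-!
# The main inequality for 2-transitive groups
-/

set_option autoImplicit false

namespace Cfsg.Agent.H895

open MulAction Finset

section

variable {G Ω : Type*} [Group G] [Fintype G] [MulAction G Ω] [Fintype Ω]

omit [Fintype G] in
theorem fixF_one : fixF Ω (1 : G) = univ := by
  ext ω; simp [mem_fixF]

omit [Fintype Ω] in
theorem one_mem_pst (a b : Ω) : (1 : G) ∈ pst G a b := mem_pst.2 ⟨one_smul _ _, one_smul _ _⟩

theorem two_le_fix {a b : Ω} (hab : a ≠ b) {g : G} (hg : g ∈ pst G a b) : 2 ≤ (fixF Ω g).card := by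
  classical
  rw [mem_pst] at hg
  rw [← Finset.card_pair hab]
  refine Finset.card_le_card ?_
  intro z hz
  rw [Finset.mem_insert, Finset.mem_singleton] at hz
  rcases hz with rfl | rfl
  · exact mem_fixF.2 hg.1
  · exact mem_fixF.2 hg.2

omit [Fintype G] in
theorem two_le_line {a b : Ω} (hab : a ≠ b) : 2 ≤ (line G a b).card := by
  classical
  rw [← Finset.card_pair hab]
  refine Finset.card_le_card ?_
  intro z hz
  rw [Finset.mem_insert, Finset.mem_singleton] at hz
  rcases hz with rfl | rfl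
  · exact left_mem_line z b
  · exact right_mem_line a z

/-- The weighted sum over the two-point stabiliser. -/
noncomputable def RR (G : Type*) {Ω : Type*} [Group G] [Fintype G] [MulAction G Ω] [Fintype Ω]
    (a b : Ω) : ℚ :=
  ∑ g ∈ pst G a b, ((Fintype.card Ω : ℚ) / (fixF Ω g).card - 1)

theorem RR_eq {a b : Ω} : RR G a b =
    (Fintype.card Ω : ℚ) * ∑ g ∈ pst G a b, 1 ^ 2 / ((fixF Ω g).card : ℚ) - (pst G a b).card := by
  rw [RR, Finset.sum_sub_distrib, Finset.sum_const, nsmul_eq_mul, mul_one, Finset.mul_sum]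
  congr 1
  refine Finset.sum_congr rfl fun g _ => ?_
  rw [one_pow, mul_one_div]

open Classical in
theorem RR_erase [Nonempty Ω] {a b : Ω} : RR G a b =
    ∑ g ∈ (pst G a b).erase 1, ((Fintype.card Ω : ℚ) / (fixF Ω g).card - 1) := by
  have h : (Fintype.card Ω : ℚ) ≠ 0 := by
    exact_mod_cast Fintype.card_ne_zero
  rw [RR, ← Finset.add_sum_erase _ _ (one_mem_pst a b), fixF_one, Finset.card_univ, div_self h]
  ring

/-- Few orbits: Cauchy–Schwarz. -/
theorem RR_few_orbits {a b : Ω} (hab : a ≠ b) {c : ℕ}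
    (hc : ∑ g ∈ pst G a b, (fixF Ω g).card = c * (pst G a b).card) (h2 : 2 * c ≤ Fintype.card Ω) :
    ((pst G a b).card : ℚ) ≤ RR G a b := by
  have hJ : (0 : ℚ) < (pst G a b).card := by exact_mod_cast pst_card_pos a b
  have hpos : ∀ g ∈ pst G a b, (0 : ℚ) < (fixF Ω g).card := by
    intro g hg
    have := two_le_fix hab hg
    exact_mod_cast (by omega : 0 < (fixF Ω g).card)
  have h1 := Finset.sq_sum_div_le_sum_sq_div (pst G a b) (fun _ => (1 : ℚ)) hpos
  have hc' : ∑ g ∈ pst G a b, ((fixF Ω g).card : ℚ) = c * (pst G a b).card := by exact_mod_cast hc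
  have hcpos : (0 : ℚ) < c := by
    have : 0 < ∑ g ∈ pst G a b, ((fixF Ω g).card : ℚ) :=
      Finset.sum_pos hpos ⟨1, one_mem_pst a b⟩
    rw [hc'] at this
    exact (pos_iff_pos_of_mul_pos this).2 hJ
  rw [hc', Finset.sum_const, nsmul_eq_mul, mul_one] at h1
  rw [RR_eq]
  have h3 : (2 : ℚ) * c ≤ Fintype.card Ω := by exact_mod_cast h2
  have h4 : ((pst G a b).card : ℚ) ^ 2 / (c * (pst G a b).card) = (pst G a b).card / c := by
    field_simp
  rw [h4] at h1
  have h5 : 2 * ((pst G a b).card : ℚ) ≤ (Fintype.card Ω : ℚ) * ((pst G a b).card / c) := by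
    rw [← mul_div_assoc, le_div_iff₀ hcpos]
    nlinarith
  have h6 : (Fintype.card Ω : ℚ) * ((pst G a b).card / c) ≤
      (Fintype.card Ω : ℚ) * ∑ g ∈ pst G a b, 1 ^ 2 / ((fixF Ω g).card : ℚ) :=
    mul_le_mul_of_nonneg_left h1 (Nat.cast_nonneg _)
  linarith

/-- Long lines. -/
theorem RR_long_lines (h2 : TwoT G Ω) [FaithfulSMul G Ω] {a b : Ω} (hab : a ≠ b)
    (hJ : 2 ≤ (pst G a b).card) (hl : 4 ≤ (line G a b).card) :
    ((pst G a b).card : ℚ) ≤ RR G a b := by
  classical
  have : Nonempty Ω := ⟨a⟩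
  rw [RR_erase]
  have h1 : ∀ g ∈ (pst G a b).erase 1, (2 : ℚ) ≤ (Fintype.card Ω : ℚ) / (fixF Ω g).card - 1 := by
    intro g hg
    rw [Finset.mem_erase] at hg
    have h3 := fix_bound h2 hab hg.1
    have h4 := two_le_fix hab hg.2
    have h5 : 3 * (fixF Ω g).card ≤ Fintype.card Ω := by
      have : (fixF Ω g).card * 3 ≤ (fixF Ω g).card * ((line G a b).card - 1) :=
        Nat.mul_le_mul_left _ (by omega)
      omega
    have h6 : (0 : ℚ) < (fixF Ω g).card := by exact_mod_cast (by omega : 0 < (fixF Ω g).card)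
    have h7 : (3 : ℚ) * (fixF Ω g).card ≤ Fintype.card Ω := by exact_mod_cast h5
    have h8 : (3 : ℚ) ≤ (Fintype.card Ω : ℚ) / (fixF Ω g).card := by
      rw [le_div_iff₀ h6]; exact h7
    linarith
  have h9 := Finset.sum_le_sum h1
  rw [Finset.sum_const, nsmul_eq_mul, Finset.card_erase_of_mem (one_mem_pst a b)] at h9
  refine le_trans ?_ h9
  rw [Nat.cast_sub (by omega)]
  have : (2 : ℚ) ≤ (pst G a b).card := by exact_mod_cast hJ
  push_cast
  linarith

/-- Lines of size three, one more orbit than allowed. -/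
theorem RR_three_mid (h2 : TwoT G Ω) [FaithfulSMul G Ω] {a b : Ω} (hab : a ≠ b)
    (hJ : 2 ≤ (pst G a b).card) (hl : (line G a b).card = 3)
    (hS : 2 * ∑ g ∈ pst G a b, (fixF Ω g).card = (Fintype.card Ω + 1) * (pst G a b).card) :
    ((pst G a b).card : ℚ) ≤ RR G a b := by
  classical
  have : Nonempty Ω := ⟨a⟩
  rw [RR_erase]
  set n := Fintype.card Ω with hn
  set J := (pst G a b).card with hJd
  have hpos : ∀ g ∈ (pst G a b).erase 1, (0 : ℚ) < (fixF Ω g).card := by
    intro g hg
    rw [Finset.mem_erase] at hg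
    have := two_le_fix hab hg.2
    exact_mod_cast (by omega : 0 < (fixF Ω g).card)
  have hX : 2 * ∑ g ∈ (pst G a b).erase 1, ((fixF Ω g).card : ℚ) = (n + 1) * J - 2 * n := by
    have e : ∑ g ∈ pst G a b, ((fixF Ω g).card : ℚ) =
        n + ∑ g ∈ (pst G a b).erase 1, ((fixF Ω g).card : ℚ) := by
      rw [← Finset.add_sum_erase _ _ (one_mem_pst a b), fixF_one, Finset.card_univ]
    have e2 : 2 * ∑ g ∈ pst G a b, ((fixF Ω g).card : ℚ) = (n + 1) * J := by exact_mod_cast hS
    linarith
  have hfb : ∀ g ∈ (pst G a b).erase 1, (2 : ℚ) * (fixF Ω g).card ≤ n - 1 := by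
    intro g hg
    rw [Finset.mem_erase] at hg
    have h3 := fix_bound h2 hab hg.1
    rw [hl] at h3
    have h4 := two_le_fix hab hg.2
    have h5 : 2 * (fixF Ω g).card + 1 ≤ n := by omega
    have h6 : (2 : ℚ) * (fixF Ω g).card + 1 ≤ n := by exact_mod_cast h5
    linarith
  have hcard : ((((pst G a b).erase 1).card : ℕ) : ℚ) = (J : ℚ) - 1 := by
    rw [Finset.card_erase_of_mem (one_mem_pst a b), Nat.cast_sub (by omega)]
    push_cast; rfl
  have hJ2 : (2 : ℚ) ≤ J := by exact_mod_cast hJ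
  -- `2 J ≤ n + 1`
  have hJn : 2 * (J : ℚ) ≤ n + 1 := by
    have h3 := Finset.sum_le_sum hfb
    rw [← Finset.mul_sum, Finset.sum_const, nsmul_eq_mul, hcard, hX] at h3
    nlinarith
  have hXpos : (0 : ℚ) < ∑ g ∈ (pst G a b).erase 1, ((fixF Ω g).card : ℚ) := by
    refine Finset.sum_pos hpos ?_
    rw [← Finset.card_pos, Finset.card_erase_of_mem (one_mem_pst a b)]
    omega
  have h1 := Finset.sq_sum_div_le_sum_sq_div ((pst G a b).erase 1) (fun _ => (1 : ℚ)) hpos
  rw [Finset.sum_const, nsmul_eq_mul, mul_one, hcard] at h1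
  have hR : ∑ g ∈ (pst G a b).erase 1, ((n : ℚ) / (fixF Ω g).card - 1) =
      n * ∑ g ∈ (pst G a b).erase 1, 1 ^ 2 / ((fixF Ω g).card : ℚ) - (J - 1) := by
    rw [Finset.sum_sub_distrib, Finset.sum_const, nsmul_eq_mul, mul_one, Finset.mul_sum, hcard]
    congr 1
    refine Finset.sum_congr rfl fun g _ => ?_
    rw [one_pow, mul_one_div]
  rw [hR]
  set X := ∑ g ∈ (pst G a b).erase 1, ((fixF Ω g).card : ℚ) with hXd
  have hn0 : (0 : ℚ) ≤ n := Nat.cast_nonneg _
  have h5 : 2 * (J : ℚ) - 1 ≤ n * (((J : ℚ) - 1) ^ 2 / X) := by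
    rw [← mul_div_assoc, le_div_iff₀ hXpos]
    nlinarith
  have h6 := mul_le_mul_of_nonneg_left h1 hn0
  linarith

end

end Cfsg.Agent.H895
end

-- part: H895/TwoThree
section
/-!
# 2-transitive groups all of whose lines have three points
-/

set_option autoImplicit false

namespace Cfsg.Agent.H895

open MulAction Finset

section

variable {G Ω : Type*} [Group G] [Fintype G] [MulAction G Ω] [Fintype Ω]

/-- Third point of the line through two points (junk value `x` if there is none). -/
noncomputable def thd (G : Type*) {Ω : Type*} [Group G] [MulAction G Ω] [Fintype Ω] (x y : Ω) : Ω :=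
  open Classical in if h : ∃ z, z ∈ line G x y ∧ z ≠ x ∧ z ≠ y then h.choose else x

omit [Fintype G] in
theorem exists_third (h2 : TwoT G Ω) {a b : Ω} (hab : a ≠ b) (hl : (line G a b).card = 3)
    {x y : Ω} (hxy : x ≠ y) : ∃ z, z ∈ line G x y ∧ z ≠ x ∧ z ≠ y := by
  classical
  have h1 : (line G x y).card = 3 := by rw [line_card_eq h2 hab hxy, hl]
  have h3 : 0 < (((line G x y).erase x).erase y).card := by
    rw [Finset.card_erase_of_mem, Finset.card_erase_of_mem (left_mem_line x y), h1]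
    · omega
    · rw [Finset.mem_erase]; exact ⟨hxy.symm, right_mem_line x y⟩
  rw [Finset.card_pos] at h3
  obtain ⟨z, hz⟩ := h3
  rw [Finset.mem_erase, Finset.mem_erase] at hz
  exact ⟨z, hz.2.2, hz.2.1, hz.1⟩

omit [Fintype G] in
theorem thd_spec (h2 : TwoT G Ω) {a b : Ω} (hab : a ≠ b) (hl : (line G a b).card = 3)
    {x y : Ω} (hxy : x ≠ y) : thd G x y ∈ line G x y ∧ thd G x y ≠ x ∧ thd G x y ≠ y := by
  have h := exists_third h2 hab hl hxy
  rw [thd, dif_pos h]
  exact h.choose_spec

omit [Fintype G] in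
theorem thd_unique (h2 : TwoT G Ω) {a b : Ω} (hab : a ≠ b) (hl : (line G a b).card = 3)
    {x y z : Ω} (hxy : x ≠ y) (hz : z ∈ line G x y) (hzx : z ≠ x) (hzy : z ≠ y) :
    z = thd G x y := by
  classical
  by_contra hne
  obtain ⟨h3, h4, h5⟩ := thd_spec h2 hab hl hxy
  have h1 : (line G x y).card = 3 := by rw [line_card_eq h2 hab hxy, hl]
  have h6 : ({x, y, z, thd G x y} : Finset Ω) ⊆ line G x y := by
    intro u hu
    simp only [Finset.mem_insert, Finset.mem_singleton] at hu
    rcases hu with rfl | rfl | rfl | rfl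
    · exact left_mem_line _ _
    · exact right_mem_line _ _
    · exact hz
    · exact h3
  have h7 := Finset.card_le_card h6
  rw [h1, Finset.card_insert_of_notMem, Finset.card_insert_of_notMem, Finset.card_pair hne] at h7
  · omega
  · simp only [Finset.mem_insert, Finset.mem_singleton, not_or]; exact ⟨hzy.symm, h5.symm⟩
  · simp only [Finset.mem_insert, Finset.mem_singleton, not_or]
    exact ⟨hxy, hzx.symm, h4.symm⟩

theorem thd_thd (h2 : TwoT G Ω) {a b : Ω} (hab : a ≠ b) (hl : (line G a b).card = 3)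
    {x y : Ω} (hxy : x ≠ y) : thd G x (thd G x y) = y := by
  obtain ⟨h3, h4, h5⟩ := thd_spec h2 hab hl hxy
  have h6 := line_eq h2 hxy h4.symm (left_mem_line x y) h3
  exact (thd_unique h2 hab hl h4.symm (by rw [h6]; exact right_mem_line x y) hxy.symm h5.symm).symm

omit [Fintype G] in
theorem fix_thd (h2 : TwoT G Ω) {a b : Ω} (hab : a ≠ b) (hl : (line G a b).card = 3)
    {x y : Ω} (hxy : x ≠ y) {g : G} (hx : g • x = x) (hy : g • y = y) :
    g • thd G x y = thd G x y :=
  mem_line.1 (thd_spec h2 hab hl hxy).1 g hx hy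

theorem fix_of_thd (h2 : TwoT G Ω) {a b : Ω} (hab : a ≠ b) (hl : (line G a b).card = 3)
    {x y : Ω} (hxy : x ≠ y) {g : G} (hx : g • x = x) (hy : g • thd G x y = thd G x y) :
    g • y = y := by
  have := fix_thd h2 hab hl (thd_spec h2 hab hl hxy).2.1.symm hx hy
  rwa [thd_thd h2 hab hl hxy] at this

theorem thd_inj (h2 : TwoT G Ω) {a b : Ω} (hab : a ≠ b) (hl : (line G a b).card = 3)
    {x y y' : Ω} (hxy : x ≠ y) (hxy' : x ≠ y') (h : thd G x y = thd G x y') : y = y' := by
  rw [← thd_thd h2 hab hl hxy, h, thd_thd h2 hab hl hxy']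

/-- The index-two property. -/
def IdxTwo (G : Type*) {Ω : Type*} [Group G] [Fintype G] [MulAction G Ω] (a b : Ω) : Prop :=
  ∀ ω : Ω, ∀ g ∈ pst G a b, ∀ k ∈ pst G a b, ((g * k) • ω = ω ↔ (g • ω = ω ↔ k • ω = ω))

theorem idxTwo_of {a b : Ω} (h : 2 * ∑ g ∈ pst G a b, (fixF Ω g).card =
    (Fintype.card Ω + (line G a b).card) * (pst G a b).card) : IdxTwo G a b := by
  intro ω g hg k hk
  by_cases hω : ω ∈ line G a b
  · have e1 : ∀ g ∈ pst G a b, g • ω = ω := mem_line_iff_pst.1 hω
    rw [mul_smul, e1 k hk, e1 g hg]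
    simp
  · exact iff_of_index_two (two_mst_eq h hω) hg hk

omit [Fintype Ω] in
theorem mul_mem_pst {a b : Ω} {g k : G} (hg : g ∈ pst G a b) (hk : k ∈ pst G a b) :
    g * k ∈ pst G a b := by
  rw [mem_pst] at hg hk ⊢
  exact ⟨by rw [mul_smul, hk.1, hg.1], by rw [mul_smul, hk.2, hg.2]⟩

omit [Fintype Ω] in
theorem mul_self_of_idxTwo [FaithfulSMul G Ω] {a b : Ω} (hI : IdxTwo G a b) {g : G}
    (hg : g ∈ pst G a b) : g * g = 1 := by
  apply FaithfulSMul.eq_of_smul_eq_smul (α := Ω)
  intro ω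
  rw [one_smul]
  exact (hI ω g hg g hg).2 Iff.rfl

theorem fix_le_of_idxTwo (h2 : TwoT G Ω) [FaithfulSMul G Ω] {a b : Ω} (hab : a ≠ b)
    (hl : (line G a b).card = 3) (hI : IdxTwo G a b) {g₁ g₂ : G} (h1 : g₁ ∈ pst G a b)
    (h3 : g₂ ∈ pst G a b) (hg1 : g₁ ≠ 1) (hg2 : g₂ ≠ 1) :
    (fixF Ω g₁).card ≤ (fixF Ω g₂).card := by
  classical
  by_cases h12 : g₁ = g₂
  · rw [h12]
  -- the third element
  have hg3 : g₁ * g₂ ≠ 1 := by
    intro h
    apply h12
    rw [← mul_self_of_idxTwo hI h3] at h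
    exact mul_right_cancel h
  have hiff := fun ω => hI ω g₁ h1 g₂ h3
  -- a point fixed by `g₁ g₂` only
  have hw : ∃ w : Ω, (g₁ * g₂) • w = w ∧ g₁ • w ≠ w := by
    by_contra hcon
    push Not at hcon
    obtain ⟨w₁, hw1⟩ := exists_moved (Ω := Ω) hg2
    obtain ⟨w₂, hw2⟩ := exists_moved (Ω := Ω) hg1
    have e1 : g₁ • w₁ = w₁ := by
      by_contra h
      have h5 := (hiff w₁).2 ⟨fun h' => absurd h' h, fun h' => absurd h' hw1⟩
      exact h (hcon w₁ h5)
    have e2 : g₂ • w₂ = w₂ := by
      by_contra h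
      have h5 := (hiff w₂).2 ⟨fun h' => absurd h' hw2, fun h' => absurd h' h⟩
      exact hw2 (hcon w₂ h5)
    have hne : w₁ ≠ w₂ := by
      rintro rfl
      exact hw1 e2
    by_cases h5 : g₁ • thd G w₁ w₂ = thd G w₁ w₂
    · exact hw2 (fix_of_thd h2 hab hl hne e1 h5)
    · have h6 : g₂ • thd G w₁ w₂ = thd G w₁ w₂ := by
        by_contra h6
        have h7 := (hiff (thd G w₁ w₂)).2 ⟨fun h' => absurd h' h5, fun h' => absurd h' h6⟩
        exact h5 (hcon _ h7)
      -- `g₂` fixes `w₂` and the third point, hence `w₁`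
      have h8 : w₁ ∈ line G w₂ (thd G w₁ w₂) := by
        obtain ⟨q1, q2, q3⟩ := thd_spec h2 hab hl hne
        rw [line_eq h2 hne q3.symm (right_mem_line w₁ w₂) q1]
        exact left_mem_line w₁ w₂
      exact hw1 (mem_line.1 h8 g₂ e2 h6)
  obtain ⟨w, hw3, hw1⟩ := hw
  have hw2 : g₂ • w ≠ w := fun h => hw1 (((hiff w).1 hw3).2 h)
  -- injection
  have hinj : ((fixF Ω g₁) \ (fixF Ω g₂)).card ≤ ((fixF Ω g₂) \ (fixF Ω g₁)).card := by
    refine Finset.card_le_card_of_injOn (fun u => thd G w u) ?_ ?_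
    · intro u hu
      rw [Finset.mem_coe, Finset.mem_sdiff, mem_fixF, mem_fixF] at hu
      have hne : w ≠ u := by
        rintro rfl
        exact hw1 hu.1
      have k1 : g₁ • thd G w u ≠ thd G w u := by
        intro h
        obtain ⟨q1, q2, q3⟩ := thd_spec h2 hab hl hne
        have h8 : w ∈ line G u (thd G w u) := by
          rw [line_eq h2 hne q3.symm (right_mem_line w u) q1]
          exact left_mem_line w u
        exact hw1 (mem_line.1 h8 g₁ hu.1 h)
      have k3 : (g₁ * g₂) • thd G w u ≠ thd G w u := by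
        intro h
        have h9 := fix_of_thd h2 hab hl hne hw3 h
        exact hu.2 (((hiff u).1 h9).1 hu.1)
      rw [Finset.mem_coe, Finset.mem_sdiff, mem_fixF, mem_fixF]
      refine ⟨?_, k1⟩
      by_contra k2
      exact k3 ((hiff _).2 ⟨fun h' => absurd h' k1, fun h' => absurd h' k2⟩)
    · intro u hu u' hu' h
      rw [Finset.mem_coe, Finset.mem_sdiff, mem_fixF, mem_fixF] at hu hu'
      have hne : w ≠ u := by
        rintro rfl
        exact hw1 hu.1
      have hne' : w ≠ u' := by
        rintro rfl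
        exact hw1 hu'.1
      exact thd_inj h2 hab hl hne hne' h
  have e1 := Finset.card_sdiff_add_card_inter (fixF Ω g₁) (fixF Ω g₂)
  have e2 := Finset.card_sdiff_add_card_inter (fixF Ω g₂) (fixF Ω g₁)
  rw [Finset.inter_comm] at e2
  omega

end

end Cfsg.Agent.H895
end

-- part: H895/TwoTop
section
/-!
# 2-transitive groups with lines of size three and elementary abelian two-point stabilisers
-/

set_option autoImplicit false

namespace Cfsg.Agent.H895

open MulAction Finset

section

variable {G Ω : Type*} [Group G] [Fintype G] [MulAction G Ω] [Fintype Ω]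

theorem card_group (h2 : TwoT G Ω) {a b : Ω} (hab : a ≠ b) :
    Fintype.card G = (Fintype.card Ω * Fintype.card Ω - Fintype.card Ω) * (pst G a b).card := by
  classical
  have h1 := Finset.card_eq_sum_card_fiberwise (f := fun g : G => (g • a, g • b)) (s := univ)
    (t := (univ : Finset Ω).offDiag) (by
      intro g _
      rw [Finset.mem_coe, Finset.mem_offDiag]
      exact ⟨mem_univ _, mem_univ _, fun h => hab (MulAction.injective g h)⟩)
  rw [Finset.card_univ] at h1
  rw [h1, Finset.sum_congr rfl (g := fun _ => (pst G a b).card), Finset.sum_const, smul_eq_mul,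
    Finset.offDiag_card, Finset.card_univ]
  intro p hp
  rw [Finset.mem_offDiag] at hp
  obtain ⟨k, hk1, hk2⟩ := h2 a b p.1 p.2 hab hp.2.2
  refine (Finset.card_bij' (fun g _ => k * g) (fun g _ => k⁻¹ * g) ?_ ?_ ?_ ?_).symm
  · intro g hg
    rw [mem_pst] at hg
    rw [Finset.mem_filter]
    refine ⟨mem_univ _, ?_⟩
    simp only [mul_smul, hg.1, hg.2, hk1, hk2]
  · intro g hg
    rw [Finset.mem_filter] at hg
    have h3 := hg.2
    rw [mem_pst, mul_smul, mul_smul, inv_smul_eq_iff, inv_smul_eq_iff, hk1, hk2]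
    exact ⟨congrArg Prod.fst h3, congrArg Prod.snd h3⟩
  · intro g _; group
  · intro g _; group

omit [Fintype Ω] in
theorem conj_mem_pst {a b x y : Ω} {k g : G} (hx : k • a = x) (hy : k • b = y)
    (hg : g ∈ pst G x y) : k⁻¹ * g * k ∈ pst G a b := by
  rw [mem_pst] at hg ⊢
  constructor
  · rw [mul_smul, mul_smul, hx, hg.1, ← hx, inv_smul_smul]
  · rw [mul_smul, mul_smul, hy, hg.2, ← hy, inv_smul_smul]

omit [Fintype G] in
theorem fix_conj' (g k : G) : (fixF Ω (k⁻¹ * g * k)).card = (fixF Ω g).card := by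
  have := fixF_conj (Ω := Ω) g k⁻¹
  rwa [inv_inv] at this

/-- A "hyperplane": if `2 f + 1 = n`, any line meets the fixed point set. -/
theorem hyper (h2 : TwoT G Ω) {a b : Ω} (hab : a ≠ b)
    (hl : (line G a b).card = 3) {t : G} (hn : Fintype.card Ω = 2 * (fixF Ω t).card + 1)
    {w u : Ω} (hw : t • w ≠ w) (hu : t • u ≠ u) (hwu : w ≠ u) : t • thd G w u = thd G w u := by
  classical
  have hmap : ∀ x ∈ fixF Ω t, thd G w x ∈ (univ \ fixF Ω t).erase w := by
    intro x hx
    rw [mem_fixF] at hx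
    have hne : w ≠ x := by
      rintro rfl
      exact hw hx
    obtain ⟨q1, q2, q3⟩ := thd_spec h2 hab hl hne
    rw [Finset.mem_erase, Finset.mem_sdiff, mem_fixF]
    refine ⟨q2, mem_univ _, fun h => ?_⟩
    have h8 : w ∈ line G x (thd G w x) := by
      rw [line_eq h2 hne q3.symm (right_mem_line w x) q1]
      exact left_mem_line w x
    exact hw (mem_line.1 h8 t hx h)
  have hinj : Set.InjOn (fun x => thd G w x) (fixF Ω t) := by
    intro x hx y hy h
    rw [Finset.mem_coe, mem_fixF] at hx hy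
    refine thd_inj h2 hab hl ?_ ?_ h
    · rintro rfl
      exact hw hx
    · rintro rfl
      exact hw hy
  have himg : (fixF Ω t).image (fun x => thd G w x) = (univ \ fixF Ω t).erase w := by
    refine Finset.eq_of_subset_of_card_le ?_ ?_
    · intro z hz
      rw [Finset.mem_image] at hz
      obtain ⟨x, hx, rfl⟩ := hz
      exact hmap x hx
    · rw [Finset.card_image_of_injOn hinj, Finset.card_erase_of_mem, Finset.card_sdiff_of_subset
        (Finset.subset_univ _), Finset.card_univ, hn]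
      · omega
      · rw [Finset.mem_sdiff, mem_fixF]; exact ⟨mem_univ _, hw⟩
  have hu' : u ∈ (fixF Ω t).image (fun x => thd G w x) := by
    rw [himg, Finset.mem_erase, Finset.mem_sdiff, mem_fixF]
    exact ⟨hwu.symm, mem_univ _, hu⟩
  rw [Finset.mem_image] at hu'
  obtain ⟨x, hx, rfl⟩ := hu'
  rw [mem_fixF] at hx
  have hne : w ≠ x := by
    rintro rfl
    exact hw hx
  rw [thd_thd h2 hab hl hne]
  exact hx

theorem two_common (h2 : TwoT G Ω) {a b : Ω} (hab : a ≠ b)
    (hl : (line G a b).card = 3) {t t' : G} (hn : Fintype.card Ω = 2 * (fixF Ω t).card + 1)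
    (hn' : Fintype.card Ω = 2 * (fixF Ω t').card + 1) (h5 : 5 ≤ (fixF Ω t).card) :
    ∃ x y : Ω, x ≠ y ∧ t • x = x ∧ t • y = y ∧ t' • x = x ∧ t' • y = y := by
  classical
  have key : 2 ≤ (fixF Ω t ∩ fixF Ω t').card := by
    have e1 := Finset.card_sdiff_add_card_inter (fixF Ω t) (fixF Ω t')
    rcases Finset.eq_empty_or_nonempty (fixF Ω t \ fixF Ω t') with h | ⟨w, hw⟩
    · rw [h, Finset.card_empty] at e1
      omega
    · have h7 : ((fixF Ω t \ fixF Ω t').erase w).card ≤ (fixF Ω t ∩ fixF Ω t').card := by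
        rw [Finset.mem_sdiff, mem_fixF, mem_fixF] at hw
        refine Finset.card_le_card_of_injOn (fun u => thd G w u) ?_ ?_
        · intro u hu
          rw [Finset.mem_coe, Finset.mem_erase, Finset.mem_sdiff, mem_fixF, mem_fixF] at hu
          rw [Finset.mem_coe, Finset.mem_inter, mem_fixF, mem_fixF]
          exact ⟨fix_thd h2 hab hl hu.1.symm hw.1 hu.2.1,
            hyper h2 hab hl hn' hw.2 hu.2.2 hu.1.symm⟩
        · intro u hu u' hu' h
          rw [Finset.mem_coe, Finset.mem_erase] at hu hu'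
          exact thd_inj h2 hab hl hu.1.symm hu'.1.symm h
      rw [Finset.card_erase_of_mem hw] at h7
      omega
  obtain ⟨x, hx, y, hy, hxy⟩ := Finset.one_lt_card.1 key
  rw [Finset.mem_inter, mem_fixF, mem_fixF] at hx hy
  exact ⟨x, y, hxy, hx.1, hy.1, hx.2, hy.2⟩

/-- The extremal configuration with many commuting involutions is impossible. -/
theorem no_extremal (h2 : TwoT G Ω) [FaithfulSMul G Ω] {a b : Ω} (hab : a ≠ b)
    (hl : (line G a b).card = 3) (hI : IdxTwo G a b) {t : G} (ht : t ∈ pst G a b) (ht1 : t ≠ 1)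
    (hn : Fintype.card Ω = 2 * (fixF Ω t).card + 1) (h5 : 5 ≤ (fixF Ω t).card) : False := by
  obtain ⟨y, hy⟩ := exists_moved (Ω := Ω) ht1
  have hay : a ≠ y := by
    rintro rfl
    exact hy (mem_pst.1 ht).1
  obtain ⟨k, hk1, hk2⟩ := h2 y (t • y) a y (Ne.symm hy) hay
  set t' := k * t * k⁻¹ with ht'
  have e1 : t' • a = y := by
    rw [ht', ← hk1, smul_smul, mul_assoc, inv_mul_cancel, mul_one, mul_smul, hk2]
  have hc : (fixF Ω t').card = (fixF Ω t).card := fixF_conj t k
  obtain ⟨x, z, hxz, h3, h4, h6, h7⟩ := two_common h2 hab hl hn (by rw [hc]; exact hn) h5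
  have hsq : ∀ g ∈ pst G x z, g * g = 1 := by
    intro g hg
    obtain ⟨m, hm1, hm2⟩ := h2 a b x z hab hxz
    have h8 := mul_self_of_idxTwo hI (conj_mem_pst hm1 hm2 hg)
    have h9 : m⁻¹ * g * m * (m⁻¹ * g * m) = m⁻¹ * (g * g) * m := by group
    rw [h9] at h8
    have h10 : g * g = m * 1 * m⁻¹ := by rw [← h8]; group
    rw [h10]; group
  have m1 : t ∈ pst G x z := mem_pst.2 ⟨h3, h4⟩
  have m2 : t' ∈ pst G x z := mem_pst.2 ⟨h6, h7⟩
  have c1 := hsq _ (mul_mem_pst m1 m2)
  have c2 := hsq _ m1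
  have c3 := hsq _ m2
  have hcomm : t * t' = t' * t := by
    have d1 : t = t⁻¹ := eq_inv_of_mul_eq_one_left c2
    have d2 : t' = t'⁻¹ := eq_inv_of_mul_eq_one_left c3
    have d3 : t * t' = (t * t')⁻¹ := eq_inv_of_mul_eq_one_left c1
    rw [mul_inv_rev, ← d1, ← d2] at d3
    exact d3
  apply hy
  have e2 : t • a = a := (mem_pst.1 ht).1
  calc t • y = t • (t' • a) := by rw [e1]
    _ = (t * t') • a := (mul_smul t t' a).symm
    _ = (t' * t) • a := by rw [hcomm]
    _ = t' • (t • a) := mul_smul t' t a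
    _ = y := by rw [e2, e1]

/-- There is no group of order 84 acting 2-transitively on 7 points. -/
theorem no_84 (h2 : TwoT G Ω) [FaithfulSMul G Ω] {a b : Ω} (hab : a ≠ b)
    (hn : Fintype.card Ω = 7) (hJ : (pst G a b).card = 2) {t : G} (ht : t ∈ pst G a b)
    (hf : (fixF Ω t).card = 3) : False := by
  classical
  have hG : Nat.card G = 84 := by
    rw [Nat.card_eq_fintype_card, card_group h2 hab, hn, hJ]
  have : Fact (Nat.Prime 7) := ⟨by norm_num⟩
  obtain ⟨P⟩ : Nonempty (Sylow 7 G) := inferInstance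
  have hPc : Nat.card P = 7 := by
    have := P.card_eq_multiplicity
    rw [hG] at this
    have h84 : Nat.factorization 84 7 = 1 := by
      rw [show 84 = 7 * 12 by norm_num, Nat.factorization_mul (by norm_num) (by norm_num)]
      rw [Finsupp.add_apply, Nat.Prime.factorization_self (by norm_num),
        Nat.factorization_eq_zero_of_not_dvd (by norm_num)]
    rw [h84, pow_one] at this
    exact this
  have hind : (P : Subgroup G).index = 12 := by
    have := (P : Subgroup G).card_mul_index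
    rw [hG] at this
    have e : Nat.card (P : Subgroup G) = 7 := hPc
    rw [e] at this
    omega
  have hone : Nat.card (Sylow 7 G) = 1 := by
    have h1 := card_sylow_modEq_one 7 G
    have h3 := P.card_dvd_index
    rw [hind] at h3
    have h4 : Nat.card (Sylow 7 G) ≤ 12 := Nat.le_of_dvd (by norm_num) h3
    interval_cases h : Nat.card (Sylow 7 G) <;> first | rfl | (exfalso; revert h1; decide) | (exfalso; revert h3; decide)
  have hsub : Subsingleton (Sylow 7 G) := (Nat.card_eq_one_iff_unique.1 hone).1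
  have hnorm : (P : Subgroup G).Normal := P.normal_of_subsingleton
  -- no nonidentity element of `P` fixes a point
  have hreg : ∀ z ∈ (P : Subgroup G), z • a = a → z = 1 := by
    intro z hz hza
    by_contra hz1
    have hstab : (stabilizer G a) ⊓ (P : Subgroup G) = P := by
      have hdvd : Nat.card ((stabilizer G a) ⊓ (P : Subgroup G) : Subgroup G) ∣ 7 := by
        have : Nat.card ((stabilizer G a) ⊓ (P : Subgroup G) : Subgroup G) ∣ Nat.card (P : Subgroup G) :=
          Subgroup.card_dvd_of_le inf_le_right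
        have e : Nat.card (P : Subgroup G) = 7 := hPc
        rwa [e] at this
      rcases (Nat.dvd_prime (by norm_num)).1 hdvd with h | h
      · exfalso
        rw [Subgroup.card_eq_one] at h
        have : z ∈ ((stabilizer G a) ⊓ (P : Subgroup G) : Subgroup G) := ⟨hza, hz⟩
        rw [h, Subgroup.mem_bot] at this
        exact hz1 this
      · refine Subgroup.eq_of_le_of_card_ge inf_le_right ?_
        have e : Nat.card (P : Subgroup G) = 7 := hPc
        rw [h, e]
    obtain ⟨y, hy⟩ := exists_moved (Ω := Ω) hz1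
    obtain ⟨k, hk⟩ : ∃ k : G, k • a = y := by
      by_cases h : a = y
      · exact ⟨1, by rw [one_smul, h]⟩
      · obtain ⟨k, hk, _⟩ := h2 a y y a h (Ne.symm h)
        exact ⟨k, hk⟩
    have h8 : k⁻¹ * z * k ∈ (P : Subgroup G) := by
      have := hnorm.conj_mem z hz k⁻¹
      rwa [inv_inv] at this
    rw [← hstab] at h8
    have h9 : (k⁻¹ * z * k) • a = a := h8.1
    rw [mul_smul, mul_smul, hk, inv_smul_eq_iff, hk] at h9
    exact hy h9
  -- the fixed points of `t` correspond to the centralizer of `t` in `P`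
  have hsurj : ∀ ω : Ω, ∃ z ∈ (P : Subgroup G), z • a = ω := by
    have hinj : Function.Injective (fun z : (P : Subgroup G) => (z : G) • a) := by
      intro z z' h
      have h' : ((z' : G)⁻¹ * z) • a = a := by
        rw [mul_smul, inv_smul_eq_iff]; exact h
      have := hreg _ (mul_mem (inv_mem z'.2) z.2) h'
      rw [inv_mul_eq_one] at this
      exact Subtype.ext this.symm
    have hbij := (Fintype.bijective_iff_injective_and_card
      (fun z : (P : Subgroup G) => (z : G) • a)).2 ⟨hinj, by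
        rw [hn, ← Nat.card_eq_fintype_card]; exact hPc⟩
    intro ω
    obtain ⟨z, hz⟩ := hbij.2 ω
    exact ⟨z, z.2, hz⟩
  have hcard : Nat.card ((P : Subgroup G) ⊓ Subgroup.centralizer {t} : Subgroup G) = 3 := by
    rw [← hf]
    have hta : t • a = a := (mem_pst.1 ht).1
    rw [← natCard_fixedBy]
    refine Nat.card_congr (Equiv.ofBijective (fun z => ⟨(z : G) • a, ?_⟩) ⟨?_, ?_⟩)
    · have hz : (z : G) ∈ Subgroup.centralizer {t} := z.2.2
      rw [Subgroup.mem_centralizer_iff] at hz
      have h8 := hz t rfl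
      change t • ((z : G) • a) = (z : G) • a
      rw [smul_smul, h8, mul_smul, hta]
    · intro z z' h
      have h' : (z : G) • a = (z' : G) • a := congrArg Subtype.val h
      have h'' : ((z' : G)⁻¹ * z) • a = a := by
        rw [mul_smul, inv_smul_eq_iff]; exact h'
      have := hreg _ (mul_mem (inv_mem z'.2.1) z.2.1) h''
      rw [inv_mul_eq_one] at this
      exact Subtype.ext this.symm
    · rintro ⟨ω, hω⟩
      obtain ⟨z, hz, rfl⟩ := hsurj ω
      have hω' : t • (z • a) = z • a := hω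
      refine ⟨⟨z, hz, ?_⟩, rfl⟩
      change z ∈ Subgroup.centralizer {t}
      rw [Subgroup.mem_centralizer_iff]
      intro h hh
      rw [Set.mem_singleton_iff] at hh
      subst hh
      have h8 : (z⁻¹ * (h * z * h⁻¹)) • a = a := by
        have : h⁻¹ • a = a := by rw [inv_smul_eq_iff]; exact hta.symm
        rw [mul_smul, mul_smul, mul_smul, this, hω', inv_smul_smul]
      have h9 := hreg _ (mul_mem (inv_mem hz) (hnorm.conj_mem z hz h)) h8
      rw [inv_mul_eq_one] at h9
      conv_rhs => rw [h9]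
      group
  have hdvd : Nat.card ((P : Subgroup G) ⊓ Subgroup.centralizer {t} : Subgroup G) ∣
      Nat.card (P : Subgroup G) := Subgroup.card_dvd_of_le inf_le_left
  have e : Nat.card (P : Subgroup G) = 7 := hPc
  rw [hcard, e] at hdvd
  norm_num at hdvd

/-- Lines of size three, the largest number of orbits. -/
theorem RR_three_top (h2 : TwoT G Ω) [FaithfulSMul G Ω] {a b : Ω} (hab : a ≠ b)
    (hJ : 2 ≤ (pst G a b).card) (hl : (line G a b).card = 3) (h7 : 7 ≤ Fintype.card Ω)
    (hS : 2 * ∑ g ∈ pst G a b, (fixF Ω g).card = (Fintype.card Ω + 3) * (pst G a b).card) :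
    ((pst G a b).card : ℚ) ≤ RR G a b := by
  classical
  have : Nonempty Ω := ⟨a⟩
  have hI : IdxTwo G a b := idxTwo_of (by rw [hl]; exact hS)
  obtain ⟨t, ht, ht1⟩ : ∃ t ∈ pst G a b, t ≠ 1 := by
    obtain ⟨t, ht⟩ : ((pst G a b).erase 1).Nonempty := by
      rw [← Finset.card_pos, Finset.card_erase_of_mem (one_mem_pst a b)]
      omega
    rw [Finset.mem_erase] at ht
    exact ⟨t, ht.2, ht.1⟩
  have hconst : ∀ g ∈ (pst G a b).erase 1, (fixF Ω g).card = (fixF Ω t).card := by
    intro g hg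
    rw [Finset.mem_erase] at hg
    exact le_antisymm (fix_le_of_idxTwo h2 hab hl hI hg.2 ht hg.1 ht1)
      (fix_le_of_idxTwo h2 hab hl hI ht hg.2 ht1 hg.1)
  rw [RR_erase]
  rw [← Finset.add_sum_erase _ _ (one_mem_pst a b), fixF_one, Finset.card_univ,
    Finset.sum_congr rfl hconst, Finset.sum_const, smul_eq_mul,
    Finset.card_erase_of_mem (one_mem_pst a b)] at hS
  rw [Finset.sum_congr rfl (g := fun _ => (Fintype.card Ω : ℚ) / (fixF Ω t).card - 1)
    (fun g hg => by rw [hconst g hg]), Finset.sum_const, nsmul_eq_mul,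
    Finset.card_erase_of_mem (one_mem_pst a b)]
  have hf2 := two_le_fix hab ht
  have hfb := fix_bound h2 hab ht1
  have hdv := dvd_card_sub_one h2 hab
  rw [hl] at hfb hdv
  set n := Fintype.card Ω with hn
  set f := (fixF Ω t).card with hf
  obtain ⟨J, hJd⟩ : ∃ J, (pst G a b).card = J + 1 := ⟨(pst G a b).card - 1, by omega⟩
  rw [hJd] at hS hJ ⊢
  simp only [Nat.add_sub_cancel] at hS ⊢
  obtain ⟨m, hm⟩ := hdv
  have hn' : n = 2 * m + 1 := by omega
  have hfm : f ≤ m := by omega
  -- `2 n + 2 J f = (n+3)(J+1)`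
  rcases Nat.lt_or_ge f m with hlt | hge
  · have hfQ : (0 : ℚ) < f := by exact_mod_cast (by omega : 0 < f)
    have hSQ : 2 * ((n : ℚ) + J * f) = (n + 3) * (J + 1) := by exact_mod_cast hS
    have h3 : (2 : ℚ) * f + 3 ≤ n := by exact_mod_cast (by omega : 2 * f + 3 ≤ n)
    have hJ1 : (1 : ℚ) ≤ J := by exact_mod_cast (by omega : 1 ≤ J)
    -- J (n - 2 f) = n - 3 J - 3
    have h4 : (J : ℚ) * (n - 2 * f) = n - 3 * J - 3 := by linarith
    have h5 : 6 * (J : ℚ) + 3 ≤ n := by nlinarith
    -- goal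
    have h6 : ((J : ℚ) + 1) * f ≤ J * (n - f) := by
      have : (f : ℚ) ≤ J * (n - 2 * f) := by
        rw [h4]
        have h8 : 2 * J * (n - 3 * J - 3 - f) = J * (n - 6 * (J : ℚ) - 3) + (n - 6 * J - 3) := by
          have : 2 * ((J : ℚ) * f) = (n + 3) * (J + 1) - 2 * n := by linarith
          linear_combination - this
        have h9 : (0 : ℚ) ≤ 2 * J * (n - 3 * J - 3 - f) := by
          rw [h8]
          have : 0 ≤ (n : ℚ) - 6 * J - 3 := by linarith
          have := mul_nonneg (by linarith : (0 : ℚ) ≤ J) this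
          linarith
        have h10 : (0 : ℚ) ≤ n - 3 * J - 3 - f := by
          by_contra hcon
          push Not at hcon
          have : 2 * (J : ℚ) * (n - 3 * J - 3 - f) < 0 :=
            mul_neg_of_pos_of_neg (by linarith) hcon
          linarith
        linarith
      linarith
    push_cast
    have h7 : (J : ℚ) * ((n : ℚ) / f - 1) = J * (n - f) / f := by
      field_simp
    rw [h7, le_div_iff₀ hfQ]
    exact h6
  · exfalso
    have hfm' : f = m := by omega
    have hn2 : n = 2 * f + 1 := by omega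
    rw [hn2] at hS
    have h4 : f = 2 * J + 1 := by
      have : 2 * (2 * f + 1 + J * f) = 2 * J * f + 4 * f + 2 := by ring
      rw [this] at hS
      have h5 : (2 * f + 1 + 3) * (J + 1) = 2 * J * f + 2 * f + 4 * J + 4 := by ring
      rw [h5] at hS
      omega
    rcases Nat.lt_or_ge J 2 with hJ2 | hJ2
    · have hJ1 : J = 1 := by omega
      subst hJ1
      exact no_84 h2 hab (by omega) hJd ht (by omega)
    · exact no_extremal h2 hab hl hI ht ht1 hn2 (by omega)

end

end Cfsg.Agent.H895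
end

-- part: H895/TwoTwo
section
/-!
# 2-transitive groups with lines of size two
-/

set_option autoImplicit false

namespace Cfsg.Agent.H895

open MulAction Finset

section

variable {G Ω : Type*} [Group G] [Fintype G] [MulAction G Ω] [Fintype Ω]

/-- Fusion in an abelian Sylow 2-subgroup of the point stabiliser. -/
theorem fusion_of_idxTwo (h2 : TwoT G Ω) [FaithfulSMul G Ω] {a b : Ω} (hab : a ≠ b)
    (hl : (line G a b).card = 2) (hI : IdxTwo G a b) (hn : Even (Fintype.card Ω))
    {x k : G} (hx : x ∈ pst G a b) (hk : k • a = a) (hkx : k⁻¹ * x * k ∈ pst G a b) :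
    k⁻¹ * x * k = x := by
  classical
  have hcard : Fintype.card G = (Fintype.card Ω * Fintype.card Ω - Fintype.card Ω) *
      (pst G a b).card := card_group h2 hab
  have hn2 : 2 ≤ Fintype.card Ω := by
    have := Finset.card_le_univ (line G a b)
    omega
  have htr : IsPretransitive G Ω := ⟨fun u v => by
    by_cases huv : u = v
    · exact ⟨1, by rw [one_smul, huv]⟩
    · obtain ⟨g, hg, _⟩ := h2 u v v u huv (Ne.symm huv)
      exact ⟨g, hg⟩⟩
  have hA : Nat.card (stabilizer G a) = (Fintype.card Ω - 1) * (pst G a b).card := by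
    have h3 := (stabilizer G a).card_mul_index
    rw [index_stabilizer_of_transitive, Nat.card_eq_fintype_card (α := G), hcard,
      Nat.card_eq_fintype_card (α := Ω)] at h3
    have h4 : Fintype.card Ω * Fintype.card Ω - Fintype.card Ω =
        (Fintype.card Ω - 1) * Fintype.card Ω := by
      rw [Nat.sub_mul, one_mul]
    rw [h4] at h3
    have h5 : 0 < Fintype.card Ω := by omega
    refine Nat.eq_of_mul_eq_mul_right h5 ?_
    rw [h3]; ring
  -- the two-point stabiliser as subgroup of the point stabiliser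
  set P0 : Subgroup (stabilizer G a) := (pstS G a b).subgroupOf (stabilizer G a) with hP0
  have hP0card : Nat.card P0 = (pst G a b).card := by
    rw [← natCard_pstS]
    exact Nat.card_congr (Subgroup.subgroupOfEquivOfLe (show pstS G a b ≤ stabilizer G a from inf_le_left)).toEquiv
  have hJ := pst_card_pos (G := G) a b
  have hidx : P0.index = Fintype.card Ω - 1 := by
    have h3 := P0.card_mul_index
    rw [hP0card, hA] at h3
    refine Nat.eq_of_mul_eq_mul_left hJ ?_
    rw [h3]; ring
  have hsq : ∀ g ∈ P0, g * g = 1 := by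
    intro g hg
    apply Subtype.ext
    exact mul_self_of_idxTwo hI (mem_pst.2 hg)
  have hP0p : IsPGroup 2 P0 := by
    intro g
    refine ⟨1, ?_⟩
    apply Subtype.ext
    rw [pow_one, pow_two]
    exact hsq g g.2
  have : Fact (Nat.Prime 2) := ⟨Nat.prime_two⟩
  have hodd : ¬ 2 ∣ P0.index := by
    rw [hidx]
    obtain ⟨m, hm⟩ := hn
    omega
  set P : Sylow 2 (stabilizer G a) := hP0p.toSylow hodd with hP
  have hPmem : ∀ g, g ∈ P ↔ g ∈ P0 := fun g => IsPGroup.mem_toSylow hP0p hodd
  have hcomm0 : ∀ g ∈ P0, ∀ h ∈ P0, g * h = h * g := by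
    intro g hg h hh
    have d1 : g = g⁻¹ := eq_inv_of_mul_eq_one_left (hsq g hg)
    have d2 : h = h⁻¹ := eq_inv_of_mul_eq_one_left (hsq h hh)
    have d3 : g * h = (g * h)⁻¹ := eq_inv_of_mul_eq_one_left (hsq _ (mul_mem hg hh))
    rw [mul_inv_rev, ← d1, ← d2] at d3
    exact d3
  have hPc : IsMulCommutative P := ⟨⟨fun g h => Subtype.ext (hcomm0 g ((hPmem _).1 g.2) h
    ((hPmem _).1 h.2))⟩⟩
  have h3 := P.conj_eq_normalizer_conj_of_mem (⟨x, (mem_pst.1 hx).1⟩ : stabilizer G a)
    (⟨k, hk⟩ : stabilizer G a) ((hPmem _).2 (mem_pst.1 hx)) ((hPmem _).2 (mem_pst.1 hkx))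
  obtain ⟨m, hm, hmx⟩ := h3
  -- `m` fixes `b`
  have hmP : m ∈ P0 := by
    have hm' : (m : G) • b ∈ line G a b := by
      rw [mem_line]
      intro g hg1 hg2
      have hgP : (⟨g, hg1⟩ : stabilizer G a) ∈ P := (hPmem _).2 ⟨hg1, hg2⟩
      have h5 : m⁻¹ * (⟨g, hg1⟩ : stabilizer G a) * m ∈ P := by
        have := (Subgroup.mem_normalizer_iff'.1 hm (m⁻¹ * (⟨g, hg1⟩ : stabilizer G a))).2
        apply this
        rw [← mul_assoc, mul_inv_cancel, one_mul]
        exact hgP
      have h6 := ((hPmem _).1 h5).2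
      have h7 : ((m : G)⁻¹ * g * m) • b = b := h6
      rw [mul_smul, mul_smul, inv_smul_eq_iff] at h7
      exact h7
    have hle : line G a b = {a, b} := by
      symm
      refine Finset.eq_of_subset_of_card_le ?_ ?_
      · intro z hz
        rw [Finset.mem_insert, Finset.mem_singleton] at hz
        rcases hz with rfl | rfl
        · exact left_mem_line z b
        · exact right_mem_line a z
      · rw [hl, Finset.card_pair hab]
    rw [hle, Finset.mem_insert, Finset.mem_singleton] at hm'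
    rcases hm' with h | h
    · exfalso
      have : (m : G) • b = (m : G) • a := by rw [h]; exact m.2.symm
      exact hab (MulAction.injective _ this).symm
    · exact ⟨m.2, h⟩
  have h8 : m⁻¹ * (⟨x, (mem_pst.1 hx).1⟩ : stabilizer G a) * m =
      (⟨x, (mem_pst.1 hx).1⟩ : stabilizer G a) := by
    rw [mul_assoc, hcomm0 _ (mem_pst.1 hx) _ hmP, ← mul_assoc, inv_mul_cancel, one_mul]
  rw [h8] at hmx
  exact congrArg Subtype.val hmx

theorem fix_bound_even (h2 : TwoT G Ω) [FaithfulSMul G Ω] {a b : Ω} (hab : a ≠ b)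
    (hl : (line G a b).card = 2) (hI : IdxTwo G a b) (hn : Even (Fintype.card Ω))
    {x : G} (hx : x ∈ pst G a b) (hx1 : x ≠ 1) :
    3 * (fixF Ω x).card ≤ Fintype.card Ω + 2 := by
  classical
  set C : Subgroup G := stabilizer G a ⊓ Subgroup.centralizer {x} with hC
  have hxx := mem_pst.1 hx
  have hcomm0 : ∀ g ∈ pst G a b, g * x = x * g := by
    intro g hg
    have d1 : g = g⁻¹ := eq_inv_of_mul_eq_one_left (mul_self_of_idxTwo hI hg)
    have d2 : x = x⁻¹ := eq_inv_of_mul_eq_one_left (mul_self_of_idxTwo hI hx)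
    have d3 : g * x = (g * x)⁻¹ :=
      eq_inv_of_mul_eq_one_left (mul_self_of_idxTwo hI (mul_mem_pst hg hx))
    rw [mul_inv_rev, ← d1, ← d2] at d3
    exact d3
  have hCmem : ∀ g : G, g ∈ C ↔ g • a = a ∧ x * g = g * x := by
    intro g
    rw [hC, Subgroup.mem_inf, Subgroup.mem_centralizer_iff]
    constructor
    · rintro ⟨h1, h3⟩; exact ⟨h1, h3 x rfl⟩
    · rintro ⟨h1, h3⟩
      refine ⟨h1, ?_⟩
      intro h hh
      rw [Set.mem_singleton_iff] at hh
      rw [hh]; exact h3
  -- the orbit of `b`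
  have horb : (orbit C b) = (((fixF Ω x).erase a : Finset Ω) : Set Ω) := by
    ext ω
    rw [Finset.mem_coe, Finset.mem_erase, mem_fixF]
    constructor
    · rintro ⟨g, rfl⟩
      have hg := (hCmem g).1 g.2
      change (g : G) • b ≠ a ∧ x • (g : G) • b = (g : G) • b
      refine ⟨?_, ?_⟩
      · intro h
        rw [← hg.1] at h
        exact hab (MulAction.injective _ h).symm
      · rw [smul_smul, hg.2, mul_smul, hxx.2]
    · rintro ⟨h1, h3⟩
      obtain ⟨k, hk1, hk2⟩ := h2 a b a ω hab (Ne.symm h1)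
      have h4 : x ∈ pst G a ω := mem_pst.2 ⟨hxx.1, h3⟩
      have h5 := conj_mem_pst hk1 hk2 h4
      have h6 := fusion_of_idxTwo h2 hab hl hI hn hx hk1 h5
      have h7 : x * k = k * x := by
        have : k * (k⁻¹ * x * k) = k * x := by rw [h6]
        rw [← this]; group
      exact ⟨⟨k, (hCmem k).2 ⟨hk1, h7⟩⟩, hk2⟩
  have hst : Nat.card (stabilizer C b) = (pst G a b).card := by
    rw [← natCard_pstS]
    refine Nat.card_congr ⟨fun g => ⟨g.1.1, ((hCmem _).1 g.1.2).1, g.2⟩,
      fun g => ⟨⟨g.1, (hCmem _).2 ⟨g.2.1, (hcomm0 g.1 (mem_pst.2 g.2)).symm⟩⟩, g.2.2⟩, fun _ => rfl,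
      fun _ => rfl⟩
  have hCcard : (pst G a b).card * ((fixF Ω x).card - 1) = Nat.card C := by
    rw [← (stabilizer C b).card_mul_index, hst, index_stabilizer, horb, Set.ncard_coe_finset,
      Finset.card_erase_of_mem (mem_fixF.2 hxx.1)]
  have hcard : Fintype.card G = (Fintype.card Ω * Fintype.card Ω - Fintype.card Ω) *
      (pst G a b).card := card_group h2 hab
  have hn2 : 2 ≤ Fintype.card Ω := by
    have := Finset.card_le_univ (line G a b)
    omega
  have htr : IsPretransitive G Ω := ⟨fun u v => by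
    by_cases huv : u = v
    · exact ⟨1, by rw [one_smul, huv]⟩
    · obtain ⟨g, hg, _⟩ := h2 u v v u huv (Ne.symm huv)
      exact ⟨g, hg⟩⟩
  have hA : Nat.card (stabilizer G a) = (Fintype.card Ω - 1) * (pst G a b).card := by
    have h3 := (stabilizer G a).card_mul_index
    rw [index_stabilizer_of_transitive, Nat.card_eq_fintype_card (α := G), hcard,
      Nat.card_eq_fintype_card (α := Ω)] at h3
    have h4 : Fintype.card Ω * Fintype.card Ω - Fintype.card Ω =
        (Fintype.card Ω - 1) * Fintype.card Ω := by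
      rw [Nat.sub_mul, one_mul]
    rw [h4] at h3
    have h5 : 0 < Fintype.card Ω := by omega
    refine Nat.eq_of_mul_eq_mul_right h5 ?_
    rw [h3]; ring
  have hdvd : Nat.card C ∣ Nat.card (stabilizer G a) := Subgroup.card_dvd_of_le inf_le_left
  rw [hA, ← hCcard, mul_comm (Fintype.card Ω - 1)] at hdvd
  have hdvd2 := (Nat.mul_dvd_mul_iff_left (pst_card_pos (G := G) a b)).1 hdvd
  obtain ⟨m, hm⟩ := hdvd2
  have hf2 := two_le_fix hab hx
  have hlt : (fixF Ω x).card < Fintype.card Ω := by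
    rw [Finset.card_lt_iff_ne_univ]
    intro h
    obtain ⟨z, hz⟩ := exists_moved (Ω := Ω) hx1
    apply hz
    rw [← mem_fixF, h]
    exact mem_univ z
  obtain ⟨r, hr⟩ := hn
  have hm3 : 3 ≤ m := by
    by_contra hcon
    have : m = 0 ∨ m = 1 ∨ m = 2 := by omega
    rcases this with rfl | rfl | rfl <;> omega
  have : ((fixF Ω x).card - 1) * 3 ≤ ((fixF Ω x).card - 1) * m := Nat.mul_le_mul_left _ hm3
  omega

/-- Lines of size two, even degree. -/
theorem RR_two_even (h2 : TwoT G Ω) [FaithfulSMul G Ω] {a b : Ω} (hab : a ≠ b)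
    (hJ : 2 ≤ (pst G a b).card) (hl : (line G a b).card = 2) (h7 : 7 ≤ Fintype.card Ω)
    (hn : Even (Fintype.card Ω))
    (hS : 2 * ∑ g ∈ pst G a b, (fixF Ω g).card = (Fintype.card Ω + 2) * (pst G a b).card) :
    ((pst G a b).card : ℚ) ≤ RR G a b := by
  classical
  have : Nonempty Ω := ⟨a⟩
  have hI : IdxTwo G a b := idxTwo_of (by rw [hl]; exact hS)
  have hn0 : (0 : ℚ) ≤ Fintype.card Ω := Nat.cast_nonneg _
  rw [RR_erase]
  -- `J` is even
  obtain ⟨ω, hω⟩ : ∃ ω, ω ∉ line G a b := by
    by_contra hcon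
    push Not at hcon
    have : line G a b = univ := Finset.eq_univ_iff_forall.2 hcon
    rw [this, Finset.card_univ] at hl
    omega
  have hJe := two_mst_eq (by rw [hl]; exact hS) hω
  rcases Nat.lt_or_ge (pst G a b).card 4 with hlt | hge
  · have hJ2 : (pst G a b).card = 2 := by omega
    obtain ⟨t, ht⟩ : ((pst G a b).erase 1).Nonempty := by
      rw [← Finset.card_pos, Finset.card_erase_of_mem (one_mem_pst a b)]
      omega
    have hcard1 : ((pst G a b).erase 1).card = 1 := by
      rw [Finset.card_erase_of_mem (one_mem_pst a b)]; omega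
    have hes : (pst G a b).erase 1 = {t} := by
      rw [Finset.card_eq_one] at hcard1
      obtain ⟨s, hs⟩ := hcard1
      rw [hs, Finset.mem_singleton] at ht
      rw [hs, ht]
    rw [← Finset.add_sum_erase _ _ (one_mem_pst a b), fixF_one, Finset.card_univ, hes,
      Finset.sum_singleton, hJ2] at hS
    have hf : (fixF Ω t).card = 2 := by omega
    rw [hes, Finset.sum_singleton, hf, hJ2]
    have : (7 : ℚ) ≤ Fintype.card Ω := by exact_mod_cast h7
    push_cast
    linarith
  · have h1 : ∀ g ∈ (pst G a b).erase 1, (4 / 3 : ℚ) ≤ (Fintype.card Ω : ℚ) / (fixF Ω g).card - 1 := by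
      intro g hg
      rw [Finset.mem_erase] at hg
      have h3 := fix_bound_even h2 hab hl hI hn hg.2 hg.1
      have h4 := two_le_fix hab hg.2
      have h6 : (0 : ℚ) < (fixF Ω g).card := by exact_mod_cast (by omega : 0 < (fixF Ω g).card)
      have h7' : (3 : ℚ) * (fixF Ω g).card ≤ Fintype.card Ω + 2 := by exact_mod_cast h3
      have h8 : (7 : ℚ) ≤ Fintype.card Ω := by exact_mod_cast h7
      have h9 : (7 / 3 : ℚ) ≤ (Fintype.card Ω : ℚ) / (fixF Ω g).card := by
        rw [le_div_iff₀ h6]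
        linarith
      linarith
    have h9 := Finset.sum_le_sum h1
    rw [Finset.sum_const, nsmul_eq_mul, Finset.card_erase_of_mem (one_mem_pst a b)] at h9
    refine le_trans ?_ h9
    rw [Nat.cast_sub (by omega)]
    have : (4 : ℚ) ≤ (pst G a b).card := by exact_mod_cast hge
    push_cast
    linarith

end

end Cfsg.Agent.H895
end
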